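import Mathlib.AlgebraicGeometry.Gluing
import Mathlib.AlgebraicGeometry.Cover.Open
import Mathlib.AlgebraicGeometry.Morphisms.UnderlyingMap
import Mathlib.Algebra.Category.CommAlgCat.Basic

/-!
# Schemes over an affine base are determined by their points in affine schemes
-/

set_option autoImplicit false
set_option backward.isDefEq.respectTransparency.types false

universe u

open CategoryTheory CategoryTheory.Limits AlgebraicGeometry

namespace Groth.Agent.GrassLib

variable {R : Type u} [CommRing R]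

/-- The spectrum of an algebra over the base. -/
noncomputable abbrev pt (A : CommAlgCat.{u} R) : Over (Spec (CommRingCat.of R)) :=
  Over.mk (Spec.map (CommRingCat.ofHom (algebraMap R A)))

variable {X Y : Over (Spec (CommRingCat.of R))}

theorem exists_lift_affine {T : Scheme.{u}} [IsAffine T] (a : T ⟶ X.left) :
    ∃ (A : CommAlgCat.{u} R) (θ : T ≅ (pt A).left) (g : pt A ⟶ X), θ.hom ≫ g.left = a := by
  obtain ⟨ψ, hψ⟩ := Spec.map_surjective (T.isoSpec.inv ≫ a ≫ X.hom)
  letI : Algebra R Γ(T, ⊤) := ψ.hom.toAlgebra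
  refine ⟨CommAlgCat.of R Γ(T, ⊤), T.isoSpec, Over.homMk (T.isoSpec.inv ≫ a) ?_,
    T.isoSpec.hom_inv_id_assoc a⟩
  show (T.isoSpec.inv ≫ a) ≫ X.hom = Spec.map (CommRingCat.ofHom ψ.hom)
  rw [Category.assoc, CommRingCat.ofHom_hom, hψ]

variable (Φ : ∀ A : CommAlgCat.{u} R, (pt A ⟶ X) → (pt A ⟶ Y))

theorem hom_ext_points {f g : X ⟶ Y} (h : ∀ (A : CommAlgCat.{u} R) (p : pt A ⟶ X), p ≫ f = p ≫ g) : f = g := by
  refine Over.OverMorphism.ext (X.left.affineCover.hom_ext _ _ fun i => ?_)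
  obtain ⟨A, θ, p, hp⟩ := exists_lift_affine (X.left.affineCover.f i)
  have := congrArg (fun r : pt A ⟶ Y => θ.hom ≫ r.left) (h A p)
  simpa [hp, ← Category.assoc] using this

/-- A natural transformation of points is a morphism. -/
theorem exists_hom
    (hΦ : ∀ (A B : CommAlgCat.{u} R) (φ : A ⟶ B) (g : pt A ⟶ X) (g' : pt B ⟶ X),
      g'.left = Spec.map (CommRingCat.ofHom φ.hom.toRingHom) ≫ g.left →
        (Φ B g').left = Spec.map (CommRingCat.ofHom φ.hom.toRingHom) ≫ (Φ A g).left) :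
    ∃ f : X ⟶ Y, ∀ (A : CommAlgCat.{u} R) (p : pt A ⟶ X), p ≫ f = Φ A p := by
  let 𝒰 := X.left.affineCover
  have hcompat : ∀ {T : Scheme.{u}} [IsAffine T] (a : T ⟶ X.left) (A : CommAlgCat.{u} R) (θ : T ⟶ (pt A).left)
      (g : pt A ⟶ X), θ ≫ g.left = a → ∀ (A' : CommAlgCat.{u} R) (θ' : T ≅ (pt A').left) (g' : pt A' ⟶ X),
        θ'.hom ≫ g'.left = a → θ ≫ (Φ A g).left = θ'.hom ≫ (Φ A' g').left := by
    intro T _ a A θ g hg A' θ' g' hg'
    obtain ⟨ψ, hψ⟩ := Spec.map_surjective (θ'.inv ≫ θ)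
    have e : g'.left = Spec.map ψ ≫ g.left := by
      rw [hψ, Category.assoc, hg, ← hg', θ'.inv_hom_id_assoc]
    have hcomm : ∀ r : R, ψ (algebraMap R A r) = algebraMap R A' r := by
      intro r
      have h2 : Spec.map (CommRingCat.ofHom (algebraMap R A) ≫ ψ) = Spec.map (CommRingCat.ofHom (algebraMap R A')) := by
        rw [Spec.map_comp]
        refine Eq.trans ?_ (Over.w g')
        rw [e, Category.assoc]
        exact congrArg (Spec.map ψ ≫ ·) (Over.w g).symm
      exact ConcreteCategory.congr_hom (Spec.map_injective h2) r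
    let φ : A ⟶ A' := CommAlgCat.ofHom { ψ.hom with commutes' := hcomm }
    have e' : (Φ A' g').left = Spec.map ψ ≫ (Φ A g).left := hΦ A A' φ g g' e
    rw [e', hψ, Category.assoc, θ'.hom_inv_id_assoc]
  choose A θ g hg using fun i => exists_lift_affine (X := X) (𝒰.f i)
  let f : X.left ⟶ Y.left := 𝒰.glueMorphisms (fun i => (θ i).hom ≫ (Φ (A i) (g i)).left) fun i j => by
    refine (pullback (𝒰.f i) (𝒰.f j)).affineCover.hom_ext _ _ fun k => ?_
    let c := (pullback (𝒰.f i) (𝒰.f j)).affineCover.f k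
    obtain ⟨A', θ', g', hg'⟩ := exists_lift_affine (X := X) (c ≫ pullback.fst (𝒰.f i) (𝒰.f j) ≫ 𝒰.f i)
    have h1 := hcompat _ (A i) (c ≫ pullback.fst (𝒰.f i) (𝒰.f j) ≫ (θ i).hom) (g i)
      (by simp only [Category.assoc, hg]) A' θ' g' hg'
    have h2 := hcompat _ (A j) (c ≫ pullback.snd (𝒰.f i) (𝒰.f j) ≫ (θ j).hom) (g j)
      (by simp only [Category.assoc, hg, pullback.condition]) A' θ' g' hg'
    simp only [Category.assoc] at h1 h2
    exact h1.trans h2.symm
  have hf : ∀ (B : CommAlgCat.{u} R) (p : pt B ⟶ X), p.left ≫ f = (Φ B p).left := by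
    intro B p
    refine Scheme.Cover.hom_ext (𝒰.pullback₁ p.left) _ _ fun i => ?_
    refine ((𝒰.pullback₁ p.left).X i).affineCover.hom_ext _ _ fun k => ?_
    let c := (pullback p.left (𝒰.f i)).affineCover.f k
    obtain ⟨A', θ', g', hg'⟩ := exists_lift_affine (X := X) (c ≫ pullback.fst p.left (𝒰.f i) ≫ p.left)
    have h1 := hcompat _ B (c ≫ pullback.fst p.left (𝒰.f i)) p (by simp only [Category.assoc]) A' θ' g' hg'
    have h2 := hcompat _ (A i) (c ≫ pullback.snd p.left (𝒰.f i) ≫ (θ i).hom) (g i)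
      (by simp only [Category.assoc, hg, pullback.condition]) A' θ' g' hg'
    show c ≫ pullback.fst p.left (𝒰.f i) ≫ p.left ≫ f = c ≫ pullback.fst p.left (𝒰.f i) ≫ (Φ B p).left
    rw [reassoc_of% (pullback.condition : pullback.fst p.left (𝒰.f i) ≫ p.left = _)]
    simp only [f, Scheme.Cover.ι_glueMorphisms]
    simp only [Category.assoc] at h1 h2
    exact h2.trans h1.symm
  refine ⟨Over.homMk f (𝒰.hom_ext _ _ fun i => ?_), fun B p => Over.OverMorphism.ext (hf B p)⟩
  have h0 := congrArg (fun r => (θ i).hom ≫ r) ((congrArg (· ≫ Y.hom) (hf (A i) (g i))).trans (Over.w (Φ (A i) (g i))))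
  have h1 := congrArg (fun r => (θ i).hom ≫ r) (Over.w (g i))
  simp only [Category.assoc, reassoc_of% (hg i)] at h0 h1
  exact h0.trans h1.symm

/-- Natural bijections of points come from a unique isomorphism. -/
theorem exists_iso (e : ∀ A : CommAlgCat.{u} R, (pt A ⟶ X) ≃ (pt A ⟶ Y))
    (he : ∀ (A B : CommAlgCat.{u} R) (φ : A ⟶ B) (g : pt A ⟶ X) (g' : pt B ⟶ X),
      g'.left = Spec.map (CommRingCat.ofHom φ.hom.toRingHom) ≫ g.left →
        (e B g').left = Spec.map (CommRingCat.ofHom φ.hom.toRingHom) ≫ (e A g).left) :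
    ∃ i : X ≅ Y, ∀ (A : CommAlgCat.{u} R) (p : pt A ⟶ X), p ≫ i.hom = e A p := by
  obtain ⟨f, hf⟩ := exists_hom (fun A => e A) he
  obtain ⟨f', hf'⟩ := exists_hom (X := Y) (Y := X) (fun A => (e A).symm) fun A B φ g g' h => by
    let h₀ : pt B ⟶ pt A := Over.homMk (Spec.map (CommRingCat.ofHom φ.hom.toRingHom)) (by
      show Spec.map _ ≫ Spec.map _ = Spec.map _
      rw [← Spec.map_comp, ← CommRingCat.ofHom_comp]
      exact congrArg (fun r => Spec.map (CommRingCat.ofHom r)) φ.hom.comp_algebraMap)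
    have h1 := he A B φ ((e A).symm g) (h₀ ≫ (e A).symm g) rfl
    rw [Equiv.apply_symm_apply, ← h] at h1
    have h2 : h₀ ≫ (e A).symm g = (e B).symm g' := (e B).eq_symm_apply.2 (Over.OverMorphism.ext h1)
    rw [← h2]
    rfl
  refine ⟨⟨f, f', hom_ext_points fun A p => ?_, hom_ext_points fun A p => ?_⟩, hf⟩
  · rw [← Category.assoc, hf, hf', Equiv.symm_apply_apply, Category.comp_id]
  · rw [← Category.assoc, hf', hf, Equiv.apply_symm_apply, Category.comp_id]

end Groth.Agent.GrassLib
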