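import Groth.Agent.GrassLib.Plucker
import Groth.Agent.GrassLib.OverPoints

/-!
# Projectivity of Grassmannians over affine bases
-/

set_option autoImplicit false
set_option linter.unusedSectionVars false
set_option backward.isDefEq.respectTransparency.types false

universe u

open CategoryTheory CategoryTheory.Limits AlgebraicGeometry

namespace Groth.Agent.GrassLib

variable {n q : ℕ} {R : Type u} [CommRing R]

/-- Schemes with the same points as the Grassmannian functor of a free module are `GrOver`. -/
theorem exists_iso_GrOver (X : Over (Spec (CommRingCat.of R)))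
    (e : ∀ A : CommAlgCat.{u} R, (pt A ⟶ X) ≃ (Module.Grassmannian.functor (R := R) (M := Fin n → R) q).obj A)
    (he : ∀ (A B : CommAlgCat.{u} R) (φ : A ⟶ B) (g : pt A ⟶ X) (g' : pt B ⟶ X),
      g'.left = Spec.map (CommRingCat.ofHom φ.hom.toRingHom) ≫ g.left →
        e B g' = (Module.Grassmannian.functor (R := R) (M := Fin n → R) q).map φ (e A g)) :
    ∃ i : X ≅ GrOver n q R, ∀ (A : CommAlgCat.{u} R) (p : pt A ⟶ X), repFree n q R A (p ≫ i.hom) = e A p := by
  obtain ⟨i, hi⟩ := exists_iso (fun A => (e A).trans (repFree n q R A).symm) fun A B φ g g' h => by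
    simp only [Equiv.trans_apply]
    let h₀ : pt B ⟶ pt A := Over.homMk (Spec.map (CommRingCat.ofHom φ.hom.toRingHom)) (by
      show Spec.map _ ≫ Spec.map _ = Spec.map _
      rw [← Spec.map_comp, ← CommRingCat.ofHom_comp]
      exact congrArg (fun r => Spec.map (CommRingCat.ofHom r)) φ.hom.comp_algebraMap)
    have h1 := repFree_natural A B φ ((repFree n q R A).symm (e A g)) (h₀ ≫ (repFree n q R A).symm (e A g)) rfl
    rw [Equiv.apply_symm_apply, ← he A B φ g g' h] at h1
    rw [← h1, Equiv.symm_apply_apply]
    rfl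
  exact ⟨i, fun A p => by rw [hi, Equiv.trans_apply, Equiv.apply_symm_apply]⟩

/-- The Grassmannian of a free module over an affine base is projective. -/
theorem exists_closedImmersion_GrOver (hq : q ≤ n) :
    ∃ c : (GrOver n q R).left ⟶ CohB1.ProjSpaceOver (n.choose q - 1) (Spec (CommRingCat.of R)),
      IsClosedImmersion c ∧
        c ≫ CohB1.ProjSpaceOver.toBase (n.choose q - 1) (Spec (CommRingCat.of R)) = (GrOver n q R).hom := by
  have hpos : 0 < n.choose q := Nat.choose_pos hq
  let σ : Fin (n.choose q - 1 + 1) ≃ Sub n q :=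
    (Fintype.equivFinOfCardEq (card_sub.trans (Nat.sub_add_cancel hpos).symm)).symm
  let p := plucker.{u} (n.choose q - 1) σ
  let b := specULiftZIsTerminal.from (Spec (CommRingCat.of R))
  have hp : p ≫ CohB1.ProjSpace.toSpec (n.choose q - 1) (ULift.{u} ℤ) = specULiftZIsTerminal.from (Gr.{u} n q) :=
    specULiftZIsTerminal.hom_ext _ _
  let c : (GrOver n q R).left ⟶ CohB1.ProjSpaceOver (n.choose q - 1) (Spec (CommRingCat.of R)) :=
    pullback.map (specULiftZIsTerminal.from (Gr.{u} n q)) b (CohB1.ProjSpace.toSpec (n.choose q - 1) (ULift.{u} ℤ)) b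
      p (𝟙 _) (𝟙 _) (by rw [Category.comp_id, hp]) (by simp)
  refine ⟨c, ?_, (pullback.lift_snd _ _ _).trans (Category.comp_id _)⟩
  have hsq : IsPullback c (pullback.fst (specULiftZIsTerminal.from (Gr.{u} n q)) b)
      (pullback.fst (CohB1.ProjSpace.toSpec (n.choose q - 1) (ULift.{u} ℤ)) b) p := by
    refine IsPullback.of_right ?_ (pullback.lift_fst _ _ _) (IsPullback.of_hasPullback _ b).flip
    have e : c ≫ pullback.snd (CohB1.ProjSpace.toSpec (n.choose q - 1) (ULift.{u} ℤ)) b =
        pullback.snd (specULiftZIsTerminal.from (Gr.{u} n q)) b :=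
      (pullback.lift_snd _ _ _).trans (Category.comp_id _)
    rw [e, hp]
    exact (IsPullback.of_hasPullback _ b).flip
  exact MorphismProperty.of_isPullback (P := @IsClosedImmersion) hsq.flip (isClosedImmersion_plucker _ σ)

end Groth.Agent.GrassLib
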