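import Groth.Agent.GrassLib.Frame
import Groth.Agent.Coherent.QcohOps

/-!
# Gluing rank `q` quotients of a free module
-/

set_option autoImplicit false
set_option linter.unusedSectionVars false
set_option backward.isDefEq.respectTransparency.types false
set_option maxHeartbeats 1000000

universe u

open CategoryTheory CategoryTheory.Limits AlgebraicGeometry Opposite TopologicalSpace
open Groth.Agent.Coherent Groth.Agent.PicLib

namespace Groth.Agent.GrassLib

variable {n q : ℕ} {T T' : Scheme.{u}}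

namespace IsFrame

variable {L : T.Modules} {t : Fin n → Γ(L, ⊤)} {U : T.Opens} {I : Fin q → Fin n}

theorem eq_zero (h : IsFrame L t U I) {V : T.Opens} (hV : V ≤ U) {c : Fin q → Γ(T, V)}
    (hc : ∑ i, c i • resM L (le_top : V ≤ ⊤) (t (I i)) = 0) : c = 0 :=
  (h.bij hV).1 (hc.trans (by simp))

end IsFrame

namespace Datum

variable (D D' : Datum n q T)

theorem res_mem_ker {V W : T.Opens} (h : W ≤ V) {c : Fin n → Γ(T, V)} (hc : c ∈ D.ker V) :
    (fun j => T.presheaf.map (homOfLE h).op (c j)) ∈ D.ker W := by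
  have h1 := congrArg (resM D.L h) hc
  simp only [map_sum, map_zero, resM_smul, resM_resM] at h1
  exact h1

theorem mem_ker_of_nhds {V : T.Opens} (c : Fin n → Γ(T, V))
    (h : ∀ x ∈ V, ∃ (W : T.Opens) (hW : W ≤ V), x ∈ W ∧ (fun j => T.presheaf.map (homOfLE hW).op (c j)) ∈ D.ker W) :
    c ∈ D.ker V := by
  refine Props12.eq_of_nhds D.L _ _ fun x hx => ?_
  obtain ⟨W, hW, hxW, hc⟩ := h x hx
  refine ⟨W, hW, hxW, ?_⟩
  simp only [map_sum, map_zero, resM_smul, resM_resM]
  exact hc

/-- A morphism matching the sections and common frames give equal relations. -/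
theorem ker_eq_of_hom_of_frames (a : D.L ⟶ D'.L) (ha : ∀ j, a.app ⊤ (D.t j) = D'.t j)
    (hI : ∀ x : T, ∃ (U : T.Opens) (I : Fin q → Fin n), x ∈ U ∧ IsFrame D.L D.t U I ∧ IsFrame D'.L D'.t U I) :
    D.ker = D'.ker := by
  funext V
  refine Set.Subset.antisymm (D.ker_subset_of_hom D' a ha V) fun c hc => D.mem_ker_of_nhds c fun x hx => ?_
  obtain ⟨U, I, hxU, hI, hI'⟩ := hI x
  refine ⟨V ⊓ U, inf_le_left, ⟨hx, hxU⟩, ?_⟩
  set c' := fun j => T.presheaf.map (homOfLE (inf_le_left : V ⊓ U ≤ V)).op (c j)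
  obtain ⟨d, hd⟩ := (hI.bij (inf_le_right : V ⊓ U ≤ U)).2 (∑ j, c' j • resM D.L (le_top : V ⊓ U ≤ ⊤) (D.t j))
  have h1 := congrArg (a.app (V ⊓ U)) hd
  simp only [map_sum, Scheme.Modules.Hom.app_smul, app_resM, ha] at h1
  have h2 : d = 0 := hI'.eq_zero inf_le_right (h1.trans (D'.res_mem_ker inf_le_left hc))
  show _ = _
  rw [← hd, h2]
  simp

/-- Inverse images along open immersions do not change relations. -/
theorem ker_pull_iff (h : T' ⟶ T) [IsOpenImmersion h] {W : T.Opens} (hW : W ≤ h.opensRange)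
    (c : Fin n → Γ(T, W)) : (fun j => h.app W (c j)) ∈ (D.pull h).ker (h ⁻¹ᵁ W) ↔ c ∈ D.ker W := by
  have key : ∀ (V : T.Opens) (e : Fin n → Γ(T, V)),
      ∑ j, h.app V (e j) • resM (D.pull h).L (le_top : h ⁻¹ᵁ V ≤ ⊤) ((D.pull h).t j) =
        pullSec h (∑ j, e j • resM D.L (le_top : V ≤ ⊤) (D.t j)) := by
    intro V e
    rw [pullSec_sum]
    refine Finset.sum_congr rfl fun j _ => ?_
    rw [pullSec_smul, ← resM_pullSec]
    rfl
  refine ⟨fun hc => D.mem_ker_of_nhds c fun x hx => ?_, fun hc => ?_⟩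
  · obtain ⟨U, I, hxU, hI⟩ := D.frame x
    refine ⟨W ⊓ U, inf_le_left, ⟨hx, hxU⟩, ?_⟩
    obtain ⟨d, hd⟩ := (hI.bij (inf_le_right : W ⊓ U ≤ U)).2
      (resM D.L (inf_le_left : W ⊓ U ≤ W) (∑ j, c j • resM D.L (le_top : W ≤ ⊤) (D.t j)))
    have hI' : IsFrame (D.pull h).L (D.pull h).t (h ⁻¹ᵁ U) I := by
      have h1 := IsBasisOn.pull h hI
      simp only [← resM_pullSec] at h1
      exact h1
    have hz : resM (D.pull h).L (h.preimage_mono (inf_le_left : W ⊓ U ≤ W))
        (pullSec h (∑ j, c j • resM D.L (le_top : W ≤ ⊤) (D.t j))) = 0 := by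
      rw [← key W c]
      exact (congrArg _ hc).trans (map_zero _)
    have h1 := congrArg (pullSec h) hd
    rw [pullSec_sum, ← resM_pullSec] at h1
    replace h1 := h1.trans hz
    simp only [pullSec_smul, ← resM_pullSec] at h1
    have h2 := hI'.eq_zero (V := h ⁻¹ᵁ (W ⊓ U)) (h.preimage_mono inf_le_right) (c := fun i => h.app _ (d i)) h1
    have : IsIso (h.app (W ⊓ U)) := h.isIso_app _ (inf_le_left.trans hW)
    have h3 : d = 0 := funext fun i => (ConcreteCategory.bijective_of_isIso (h.app (W ⊓ U))).1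
      ((congrFun h2 i).trans (map_zero _).symm)
    show _ = _
    simp only [← resM_smul, ← map_sum, ← resM_resM D.L (le_top : W ≤ ⊤) (inf_le_left : W ⊓ U ≤ W)]
    rw [← hd, h3]
    simp
  · show _ = _
    rw [key W c, hc]
    exact map_zero (((Scheme.Modules.pullbackPushforwardAdjunction h).unit.app D.L).app W).hom

end Datum

/-- Quotients agreeing on a covering family of open immersions are equal. -/
theorem Elt.ext_cover {ι : Type u} {V : ι → Scheme.{u}} (f : ∀ i, V i ⟶ T) [∀ i, IsOpenImmersion (f i)]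
    (hf : ∀ x : T, ∃ i, x ∈ (f i).opensRange) {E E' : Elt n q T} (h : ∀ i, E.pull (f i) = E'.pull (f i)) : E = E' := by
  rw [← E.mk_datum, ← E'.mk_datum, Elt.mk_eq_mk]
  have h' : ∀ i, (E.datum.pull (f i)).ker = (E'.datum.pull (f i)).ker := fun i => Elt.mk_eq_mk.1 (h i)
  funext W
  ext c
  have hres : ∀ (D : Datum n q T), c ∈ D.ker W ↔ ∀ i, (fun j => T.presheaf.map
      (homOfLE (inf_le_left : W ⊓ (f i).opensRange ≤ W)).op (c j)) ∈ D.ker (W ⊓ (f i).opensRange) := fun D =>
    ⟨fun hc i => D.res_mem_ker _ hc, fun hc => D.mem_ker_of_nhds c fun x hx => by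
      obtain ⟨i, hi⟩ := hf x
      exact ⟨_, inf_le_left, ⟨hx, hi⟩, hc i⟩⟩
  rw [hres, hres]
  refine forall_congr' fun i => ?_
  rw [← E.datum.ker_pull_iff (f i) inf_le_right, ← E'.datum.ker_pull_iff (f i) inf_le_right, h']

/-- Sections of a product of modules are determined by their components. -/
theorem pi_sections_ext {ι : Type u} (M : ι → T.Modules) {W : T.Opens} {a b : Γ(∏ᶜ M, W)}
    (h : ∀ i, (Pi.π M i).app W a = (Pi.π M i).app W b) : a = b := by
  let F : T.Modules ⥤ AddCommGrpCat.{u} :=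
    Scheme.Modules.toPresheaf T ⋙ (CategoryTheory.evaluation (T.Opensᵒᵖ) AddCommGrpCat.{u}).obj (op W)
  haveI : PreservesLimitsOfShape (Discrete ι) F := by
    haveI h1 : PreservesLimitsOfShape (Discrete ι) (Scheme.Modules.toPresheaf T) :=
      (inferInstance : PreservesLimits (Scheme.Modules.toPresheaf T)).preservesLimitsOfShape
    haveI h2 : PreservesLimitsOfShape (Discrete ι)
        ((CategoryTheory.evaluation (T.Opensᵒᵖ) AddCommGrpCat.{u}).obj (op W)) := inferInstance
    exact @Limits.comp_preservesLimitsOfShape _ _ _ _ _ _ _ _ (Scheme.Modules.toPresheaf T)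
      ((CategoryTheory.evaluation (T.Opensᵒᵖ) AddCommGrpCat.{u}).obj (op W)) h1 h2
  have hl : IsLimit (Fan.mk (F.obj (∏ᶜ M)) fun i => F.map (Pi.π M i)) :=
    isLimitFanMkObjOfIsLimit F M _ (productIsProduct M)
  exact Concrete.isLimit_ext _ hl a b fun ⟨i⟩ => h i

/-- Compatible quotients on a covering family of open immersions glue. -/
theorem Elt.exists_glue {ι : Type u} {V : ι → Scheme.{u}} (f : ∀ i, V i ⟶ T) [∀ i, IsOpenImmersion (f i)]
    (hf : ∀ x : T, ∃ i, x ∈ (f i).opensRange) (E : ∀ i, Elt n q (V i))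
    (hE : ∀ i l, (E i).pull (pullback.fst (f i) (f l)) = (E l).pull (pullback.snd (f i) (f l))) :
    ∃ G : Elt n q T, ∀ i, G.pull (f i) = E i := by
  classical
  let D := fun i => (E i).datum
  -- relations agree on overlaps
  have hcomp : ∀ i l (W : T.Opens), W ≤ (f i).opensRange → W ≤ (f l).opensRange → ∀ c : Fin n → Γ(T, W),
      ((fun j => (f i).app W (c j)) ∈ (D i).ker (f i ⁻¹ᵁ W) ↔ (fun j => (f l).app W (c j)) ∈ (D l).ker (f l ⁻¹ᵁ W)) := by
    intro i l W hi hl c
    let p := pullback.fst (f i) (f l)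
    let p' := pullback.snd (f i) (f l)
    have hP := IsPullback.of_hasPullback (f i) (f l)
    have hpi : f i ⁻¹ᵁ W ≤ p.opensRange := fun y hy => by
      obtain ⟨z, hz⟩ := hl hy
      obtain ⟨w, hw, -⟩ := Scheme.Pullback.exists_preimage_pullback y z hz.symm
      exact ⟨w, hw⟩
    have hpl : f l ⁻¹ᵁ W ≤ p'.opensRange := fun y hy => by
      obtain ⟨z, hz⟩ := hi hy
      obtain ⟨w, -, hw⟩ := Scheme.Pullback.exists_preimage_pullback z y hz
      exact ⟨w, hw⟩
    rw [← (D i).ker_pull_iff p hpi, ← (D l).ker_pull_iff p' hpl]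
    have hk : ((D i).pull p).ker = ((D l).pull p').ker := Elt.mk_eq_mk.1 (hE i l)
    have key : ∀ (g g' : pullback (f i) (f l) ⟶ T) (_ : g = g') (K : ∀ O, Set (Fin n → Γ(pullback (f i) (f l), O))),
        (fun j => g.app W (c j)) ∈ K (g ⁻¹ᵁ W) ↔ (fun j => g'.app W (c j)) ∈ K (g' ⁻¹ᵁ W) := by
      intro g g' e K; subst e; rfl
    have := key (p ≫ f i) (p' ≫ f l) pullback.condition ((D i).pull p).ker
    simp only [Scheme.Hom.comp_app, CommRingCat.comp_apply] at this
    rw [hk] at this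
    rw [hk]
    exact this
  let M : ι → T.Modules := fun i => (Scheme.Modules.pushforward (f i)).obj (D i).L
  let s : freeMod T (ULift.{u} (Fin n)) ⟶ ∏ᶜ M :=
    freeDesc fun j => Pi.lift fun i => unitDesc (M i) (show Γ(M i, ⊤) from (D i).t j.down)
  let π : ∀ i, Abelian.image s ⟶ M i := fun i => Abelian.image.ι s ≫ Pi.π M i
  let t : Fin n → Γ(Abelian.image s, ⊤) :=
    fun j => (Abelian.factorThruImage s).app ⊤ (freeBasisVec (X := T) (ULift.up.{u} j) ⊤)
  have hπt : ∀ i j, (π i).app ⊤ (t j) = (show Γ(M i, ⊤) from (D i).t j) := by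
    intro i j
    show ((Abelian.factorThruImage s) ≫ Abelian.image.ι s ≫ Pi.π M i).app ⊤ (freeBasisVec (ULift.up.{u} j) ⊤) = _
    rw [reassoc_of% (Abelian.image.fac s)]
    show unitVal (freeInj (ULift.up.{u} j) ≫ s ≫ Pi.π M i) ⊤ = _
    rw [← Category.assoc, freeInj_freeDesc, Pi.lift_π, unitVal_unitDesc]
    exact resM_self _ _ _
  have hext : ∀ (W : T.Opens) (a b : Γ(Abelian.image s, W)), (∀ i, (π i).app W a = (π i).app W b) → a = b := by
    intro W a b h
    exact Coherent.app_injective_of_mono (Abelian.image.ι s) W (pi_sections_ext M h)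
  have hsum : ∀ i (W : T.Opens) {κ : Type} [Fintype κ] (J : κ → Fin n) (c : κ → Γ(T, W)),
      (π i).app W (∑ k, c k • resM (Abelian.image s) (le_top : W ≤ ⊤) (t (J k))) =
        (show Γ(M i, W) from ∑ k, (f i).app W (c k) • resM (D i).L (le_top : f i ⁻¹ᵁ W ≤ ⊤) ((D i).t (J k))) := by
    intro i W κ _ J c
    rw [map_sum]
    refine Finset.sum_congr rfl fun k _ => ?_
    rw [Scheme.Modules.Hom.app_smul, app_resM, hπt]
    rfl
  have hframe : ∀ i (U : (V i).Opens) (I : Fin q → Fin n), IsFrame (D i).L (D i).t U I →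
      IsFrame (Abelian.image s) t (f i ''ᵁ U) I := by
    intro i U I hI
    refine IsFrame.of_bij fun W hW => ?_
    have hWr : W ≤ (f i).opensRange := hW.trans ((f i).image_le_opensRange U)
    have hWU : f i ⁻¹ᵁ W ≤ U := ((f i).preimage_mono hW).trans ((f i).preimage_image_eq U).le
    have hiso : IsIso ((f i).app W) := (f i).isIso_app _ hWr
    have hbij := ConcreteCategory.bijective_of_isIso ((f i).app W)
    refine ⟨fun c c' h => funext fun k => hbij.1 ?_, fun x => ?_⟩
    · have h' := congrArg ((π i).app W) h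
      simp only [hsum] at h'
      exact congrFun ((hI.bij hWU).1 h') k
    · obtain ⟨d', hd'⟩ := (hI.bij hWU).2 (show Γ((D i).L, f i ⁻¹ᵁ W) from (π i).app W x)
      obtain ⟨d, rfl⟩ : ∃ d, (fun k => (f i).app W (d k)) = d' :=
        ⟨fun k => (hbij.2 (d' k)).choose, funext fun k => (hbij.2 (d' k)).choose_spec⟩
      refine ⟨d, hext W _ _ fun l => ?_⟩
      rw [hsum]
      refine AmpleLib.sec_ext (D l).L _ _ fun y hy => ?_
      obtain ⟨W', hle, hyW', b, hb⟩ := Coherent.exists_lift_of_epi (Abelian.factorThruImage s) W x (f l y) hy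
      let W'' := W' ⊓ (f l).opensRange
      have hle'' : W'' ≤ W := inf_le_left.trans hle
      refine ⟨f l ⁻¹ᵁ W'', (f l).preimage_mono hle'', ⟨hyW', y, rfl⟩, ?_⟩
      -- on `W''` the section is the image of a row vector
      let e : Fin n → Γ(T, W'') := fun j => T.presheaf.map (homOfLE (inf_le_left : W'' ≤ W')).op
        (freeSectionsEquiv W' b ⟨j⟩)
      have hx : resM (Abelian.image s) hle'' x = ∑ j, e j • resM (Abelian.image s) (le_top : W'' ≤ ⊤) (t j) := by
        rw [← resM_resM (Abelian.image s) hle (inf_le_left : W'' ≤ W'), ← hb, freeMod_app, map_sum]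
        refine Fintype.sum_equiv Equiv.ulift _ _ fun j => ?_
        rw [resM_smul]
        congr 1
        rw [resM_unitVal]
        exact (resM_unitVal (freeInj j ≫ Abelian.factorThruImage s) (le_top : W'' ≤ ⊤)).symm
      let e' : Fin n → Γ(T, W'') := fun j =>
        e j - ∑ k, if I k = j then T.presheaf.map (homOfLE hle'').op (d k) else 0
      have hdiff : ∑ j, e' j • resM (Abelian.image s) (le_top : W'' ≤ ⊤) (t j) =
          resM (Abelian.image s) hle'' x -
            resM (Abelian.image s) hle'' (∑ k, d k • resM (Abelian.image s) (le_top : W ≤ ⊤) (t (I k))) := by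
        simp only [e', sub_smul, Finset.sum_sub_distrib, ← hx, map_sum, resM_smul, resM_resM, Finset.sum_smul, ite_smul,
          zero_smul]
        rw [Finset.sum_comm]
        simp
      have hi0 : (fun j => (f i).app W'' (e' j)) ∈ (D i).ker (f i ⁻¹ᵁ W'') := by
        show _ = _
        have h1 := congrArg ((π i).app W'') hdiff
        rw [hsum] at h1
        refine h1.trans ?_
        rw [map_sub, app_resM, app_resM, hsum]
        exact sub_eq_zero.2 (congrArg (resM (M i) hle'') hd'.symm)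
      have hl0 := (hcomp i l W'' (hle''.trans hWr) inf_le_right e').1 hi0
      have h2 := congrArg ((π l).app W'') hdiff
      rw [hsum] at h2
      have h3 := h2.symm.trans hl0
      rw [map_sub, app_resM, app_resM, hsum] at h3
      exact (sub_eq_zero.1 h3).symm
  let G : Datum n q T :=
    { L := Abelian.image s
      t := t
      frame := fun x => by
        obtain ⟨i, y, rfl⟩ := hf x
        obtain ⟨U, I, hy, hI⟩ := (D i).frame y
        exact ⟨f i ''ᵁ U, I, ⟨y, hy, rfl⟩, hframe i U I hI⟩ }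
  refine ⟨Elt.mk G, fun i => ?_⟩
  rw [Elt.pull_mk, ← (E i).mk_datum, Elt.mk_eq_mk]
  refine Datum.ker_eq_of_hom_of_frames (G.pull (f i)) (D i)
    (((Scheme.Modules.pullbackPushforwardAdjunction (f i)).homEquiv _ _).symm (π i))
    (fun j => (homEquiv_symm_app_pullSec (f i) (π i) (t j)).trans (hπt i j)) fun y => ?_
  obtain ⟨U, I, hy, hI⟩ := (D i).frame y
  refine ⟨U, I, hy, ?_, hI⟩
  have h1 : IsFrame G.L G.t (f i ''ᵁ U) I := hframe i U I hI
  have h2 := IsBasisOn.pull (f i) h1
  simp only [← resM_pullSec] at h2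
  exact IsFrame.mono (U := f i ⁻¹ᵁ (f i ''ᵁ U)) h2 ((f i).preimage_image_eq U).ge

end Groth.Agent.GrassLib
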