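import Groth.Agent.GrassLib.MapOfEpi
import Groth.Agent.GrassLib.Glue
import Groth.Agent.CAlgSmall.QBridge
import Groth.Agent.Coherent.PullUnit

/-!
# Rank `e` locally free quotients of a module, as a small functor
-/

set_option autoImplicit false
set_option linter.unusedSectionVars false
set_option backward.isDefEq.respectTransparency false
set_option maxHeartbeats 1000000

universe u

open CategoryTheory CategoryTheory.Limits AlgebraicGeometry Opposite TopologicalSpace
open Groth.Agent.Coherent Groth.Agent.PicLib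

namespace Groth.Agent.GrassLib

variable {X : Scheme.{u}} {E : X.Modules} {e : ℕ}

/-- The inverse image of the module. -/
noncomputable abbrev bc (E : X.Modules) (T : Over X) : T.left.Modules := (Scheme.Modules.pullback T.hom).obj E

/-- Sections killed by a map. -/
def kerSet {T : Scheme.{u}} {M L : T.Modules} (s : M ⟶ L) (V : T.Opens) : Set Γ(M, V) := {x | s.app V x = 0}

theorem kerSet_comp_iso {T : Scheme.{u}} {M L L' : T.Modules} (s : M ⟶ L) (i : L ≅ L') :
    kerSet (s ≫ i.hom) = kerSet s := by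
  funext V
  ext x
  show i.hom.app V (s.app V x) = 0 ↔ _
  exact map_eq_zero_iff _ (ConcreteCategory.bijective_of_isIso (C := AddCommGrpCat) (i.hom.app V)).1

theorem exists_iso_of_kerSet_eq {T : Scheme.{u}} {M L L' : T.Modules} (s : M ⟶ L) (s' : M ⟶ L') [Epi s] [Epi s']
    (h : kerSet s = kerSet s') : ∃ i : L ≅ L', s ≫ i.hom = s' := by
  have key : ∀ {A B : T.Modules} (a : M ⟶ A) (b : M ⟶ B), kerSet a = kerSet b → kernel.ι a ≫ b = 0 := by
    intro A B a b hab
    refine Scheme.Modules.hom_ext _ _ fun V => ConcreteCategory.hom_ext _ _ fun x => ?_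
    have h1 : (kernel.ι a).app V x ∈ kerSet a V :=
      congrArg (fun g : kernel a ⟶ A => g.app V x) (kernel.condition a)
    rw [hab] at h1
    exact h1
  refine ⟨⟨Abelian.epiDesc s s' (key s s' h), Abelian.epiDesc s' s (key s' s h.symm), ?_, ?_⟩,
    Abelian.comp_epiDesc s s' (key s s' h)⟩
  · rw [← cancel_epi s, ← Category.assoc, Abelian.comp_epiDesc, Abelian.comp_epiDesc, Category.comp_id]
  · rw [← cancel_epi s', ← Category.assoc, Abelian.comp_epiDesc, Abelian.comp_epiDesc, Category.comp_id]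

variable (E e) in
/-- A rank `e` quotient, as its sections killed. -/
def QElt (T : Over X) : Type u :=
  {K : ∀ V : T.left.Opens, Set Γ(bc E T, V) //
    ∃ (L : T.left.Modules) (s : bc E T ⟶ L), FlatMod.IsFinLocFreeOfRank e L ∧ Epi s ∧ kerSet s = K}

namespace QElt

variable {T T' T'' : Over X}

/-- The class of a quotient. -/
def mk {L : T.left.Modules} (s : bc E T ⟶ L) (hL : FlatMod.IsFinLocFreeOfRank e L) (hs : Epi s) : QElt E e T :=
  ⟨kerSet s, L, s, hL, hs, rfl⟩

noncomputable def mod (K : QElt E e T) : T.left.Modules := K.2.choose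

noncomputable def quot (K : QElt E e T) : bc E T ⟶ K.mod := K.2.choose_spec.choose

theorem rank (K : QElt E e T) : FlatMod.IsFinLocFreeOfRank e K.mod := K.2.choose_spec.choose_spec.1

theorem epi (K : QElt E e T) : Epi K.quot := K.2.choose_spec.choose_spec.2.1

theorem kerSet_quot (K : QElt E e T) : kerSet K.quot = K.1 := K.2.choose_spec.choose_spec.2.2

theorem mk_quot (K : QElt E e T) : mk K.quot K.rank K.epi = K := Subtype.ext K.kerSet_quot

theorem mk_eq_mk {L L' : T.left.Modules} {s : bc E T ⟶ L} {s' : bc E T ⟶ L'} {hL : FlatMod.IsFinLocFreeOfRank e L}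
    {hs : Epi s} {hL' : FlatMod.IsFinLocFreeOfRank e L'} {hs' : Epi s'} :
    mk s hL hs = mk s' hL' hs' ↔ ∃ i : L ≅ L', s ≫ i.hom = s' := by
  refine ⟨fun h => exists_iso_of_kerSet_eq s s' (congrArg Subtype.val h), ?_⟩
  rintro ⟨i, rfl⟩
  exact Subtype.ext (kerSet_comp_iso s i).symm

/-- Inverse image. -/
noncomputable def pull (t : T' ⟶ T) (K : QElt E e T) : QElt E e T' :=
  mk (Grass.quotBC (Over.w t) K.quot) (isFinLocFreeOfRank_pullback t.left K.rank)
    (haveI := K.epi; epi_quotBC K.quot (Over.w t))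

theorem pull_mk (t : T' ⟶ T) {L : T.left.Modules} (s : bc E T ⟶ L) (hL : FlatMod.IsFinLocFreeOfRank e L)
    (hs : Epi s) : pull t (mk s hL hs) =
      mk (Grass.quotBC (Over.w t) s) (isFinLocFreeOfRank_pullback t.left hL) (epi_quotBC s (Over.w t)) := by
  obtain ⟨i, hi⟩ := mk_eq_mk.1 (mk s hL hs).mk_quot
  exact mk_eq_mk.2 ⟨(Scheme.Modules.pullback t.left).mapIso i,
    ((quotBC_comp_map _ i.hom _).symm.trans (congrArg (Grass.quotBC (Over.w t)) hi))⟩

theorem pull_comp (a : T' ⟶ T) (b : T'' ⟶ T') (K : QElt E e T) : pull (b ≫ a) K = pull b (pull a K) := by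
  show _ = pull b (mk _ _ _)
  rw [pull_mk]
  exact mk_eq_mk.2 ⟨((Scheme.Modules.pullbackComp b.left a.left).app K.mod).symm,
    quotBC_comp K.quot (Over.w a) (Over.w b) (Over.w (b ≫ a))⟩

theorem quotBC_id {Y : Scheme.{u}} {f : Y ⟶ X} {L : Y.Modules} (s : (Scheme.Modules.pullback f).obj E ⟶ L)
    (h : 𝟙 Y ≫ f = f) : Grass.quotBC h s ≫ (Scheme.Modules.pullbackId Y).hom.app L = s := by
  have h1 := congr_app (Scheme.Modules.pseudofunctor_right_unitality (f := f)) E
  simp only [NatTrans.comp_app, Functor.whiskerLeft_app, Functor.rightUnitor_hom_app, eqToHom_app,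
    Category.comp_id] at h1
  simp only [Grass.quotBC, Category.assoc]
  erw [(Scheme.Modules.pullbackId Y).hom.naturality s]
  rw [pullbackCongr_inv_app, reassoc_of% h1]
  simp

theorem pull_id (K : QElt E e T) : pull (𝟙 T) K = K := by
  conv_rhs => rw [← K.mk_quot]
  exact mk_eq_mk.2 ⟨(Scheme.Modules.pullbackId T.left).app K.mod, quotBC_id K.quot _⟩

/-- The identification of the inverse images of the module. -/
noncomputable abbrev bcMap (t : T' ⟶ T) : bc E T' ⟶ (Scheme.Modules.pullback t.left).obj (bc E T) :=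
  Grass.quotBC (Over.w t) (𝟙 (bc E T))

instance (t : T' ⟶ T) : IsIso (bcMap (E := E) t) := by
  dsimp only [bcMap, Grass.quotBC]
  infer_instance

theorem quotBC_eq (t : T' ⟶ T) {L : T.left.Modules} (s : bc E T ⟶ L) :
    Grass.quotBC (Over.w t) s = bcMap t ≫ (Scheme.Modules.pullback t.left).map s := by
  rw [bcMap, ← quotBC_comp_map, Category.id_comp]

/-- Inverse image of sections of the module. -/
noncomputable def pb (t : T' ⟶ T) {W : T.left.Opens} (x : Γ(bc E T, W)) : Γ(bc E T', t.left ⁻¹ᵁ W) :=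
  (inv (bcMap t)).app _ (pullSec t.left x)

theorem bcMap_pb (t : T' ⟶ T) {W : T.left.Opens} (x : Γ(bc E T, W)) :
    (bcMap t).app _ (pb t x) = pullSec t.left x :=
  congrArg (fun g : (Scheme.Modules.pullback t.left).obj (bc E T) ⟶ _ => g.app _ (pullSec t.left x))
    (IsIso.inv_hom_id (bcMap t))

theorem quotBC_pb (t : T' ⟶ T) {L : T.left.Modules} (s : bc E T ⟶ L) {W : T.left.Opens} (x : Γ(bc E T, W)) :
    (Grass.quotBC (Over.w t) s).app _ (pb t x) = pullSec t.left (s.app W x) := by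
  rw [quotBC_eq]
  show ((Scheme.Modules.pullback t.left).map s).app _ ((bcMap t).app _ (pb t x)) = _
  rw [bcMap_pb]
  exact RelVALib.map_app_pullSec t.left s W x

theorem bijective_pb (t : T' ⟶ T) [IsOpenImmersion t.left] {W : T.left.Opens} (hW : W ≤ t.left.opensRange) :
    Function.Bijective (pb (E := E) t : Γ(bc E T, W) → _) :=
  (ConcreteCategory.bijective_of_isIso (C := AddCommGrpCat) ((inv (bcMap t)).app _)).comp
    (CAlgSmall.QBridge.bijective_pullSec_of_le t.left (bc E T) hW)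

theorem mem_pull_iff (t : T' ⟶ T) [IsOpenImmersion t.left] (K : QElt E e T) {W : T.left.Opens}
    (hW : W ≤ t.left.opensRange) (x : Γ(bc E T, W)) :
    pb t x ∈ (pull t K).1 (t.left ⁻¹ᵁ W) ↔ x ∈ K.1 W := by
  conv_rhs => rw [← K.kerSet_quot]
  show (Grass.quotBC (Over.w t) K.quot).app _ (pb t x) = 0 ↔ K.quot.app W x = 0
  rw [quotBC_pb]
  exact map_eq_zero_iff ((Scheme.Modules.pullbackPushforwardAdjunction t.left).unit.app K.mod |>.app W).hom
    (CAlgSmall.QBridge.bijective_pullSec_of_le t.left K.mod hW).1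

theorem res_mem (K : QElt E e T) {V W : T.left.Opens} (h : W ≤ V) {x : Γ(bc E T, V)} (hx : x ∈ K.1 V) :
    resM (bc E T) h x ∈ K.1 W := by
  rw [← K.kerSet_quot] at hx ⊢
  show K.quot.app W (resM _ h x) = 0
  rw [app_resM, show K.quot.app V x = 0 from hx, map_zero]

theorem mem_of_nhds (K : QElt E e T) {V : T.left.Opens} (x : Γ(bc E T, V))
    (h : ∀ y ∈ V, ∃ (W : T.left.Opens) (hW : W ≤ V), y ∈ W ∧ resM (bc E T) hW x ∈ K.1 W) : x ∈ K.1 V := by
  rw [← K.kerSet_quot] at h ⊢
  refine Props12.eq_of_nhds K.mod _ _ fun y hy => ?_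
  obtain ⟨W, hW, hyW, hx⟩ := h y hy
  refine ⟨W, hW, hyW, ?_⟩
  rw [← app_resM, map_zero]
  exact hx

/-- Quotients agreeing on a cover are equal. -/
theorem ext_cover {ι : Type u} {V : ι → Over X} (a : ∀ i, V i ⟶ T) [∀ i, IsOpenImmersion (a i).left]
    (ha : ∀ x : T.left, ∃ i, x ∈ (a i).left.opensRange) {K K' : QElt E e T} (h : ∀ i, pull (a i) K = pull (a i) K') :
    K = K' := by
  refine Subtype.ext (funext fun W => Set.ext fun x => ?_)
  have key : ∀ K₀ : QElt E e T, x ∈ K₀.1 W ↔ ∀ i, pb (a i) (resM (bc E T) (inf_le_left : W ⊓ (a i).left.opensRange ≤ W) x) ∈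
      (pull (a i) K₀).1 ((a i).left ⁻¹ᵁ (W ⊓ (a i).left.opensRange)) := fun K₀ =>
    ⟨fun hx i => (mem_pull_iff (a i) K₀ inf_le_right _).2 (K₀.res_mem _ hx), fun hx => K₀.mem_of_nhds x fun y hy => by
      obtain ⟨i, hi⟩ := ha y
      exact ⟨_, inf_le_left, ⟨hy, hi⟩, (mem_pull_iff (a i) K₀ inf_le_right _).1 (hx i)⟩⟩
  simp only [key, h]

theorem pb_comp (a : T' ⟶ T) (b : T'' ⟶ T') {W : T.left.Opens} (x : Γ(bc E T, W)) :
    pb (b ≫ a) x = pb b (pb a x) := by
  refine (ConcreteCategory.bijective_of_isIso (C := AddCommGrpCat) ((bcMap (b ≫ a)).app _)).1 ?_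
  refine (bcMap_pb (b ≫ a) x).trans ?_
  have h1 := quotBC_comp (𝟙 (bc E T)) (Over.w a) (Over.w b) (Over.w (b ≫ a))
  rw [quotBC_eq b] at h1
  refine (ConcreteCategory.bijective_of_isIso (C := AddCommGrpCat)
    (((Scheme.Modules.pullbackComp b.left a.left).inv.app (bc E T)).app ((b ≫ a).left ⁻¹ᵁ W))).1 ?_
  have h2 := congrArg (fun g : bc E T'' ⟶ _ => g.app (b.left ⁻¹ᵁ (a.left ⁻¹ᵁ W)) (pb b (pb a x))) h1
  refine Eq.trans ?_ h2.symm
  refine (Coherent.pullbackComp_inv_app_pullSec b.left a.left (bc E T) W x).trans ?_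
  show _ = ((Scheme.Modules.pullback b.left).map (bcMap a)).app _ ((bcMap b).app _ (pb b (pb a x)))
  rw [bcMap_pb]
  exact ((congrArg (pullSec b.left) (bcMap_pb a x)).symm.trans
    (RelVALib.map_app_pullSec b.left (bcMap a) _ (pb a x)).symm)

theorem pb_congr {a b : T' ⟶ T} (h : a = b) {W : T.left.Opens} (x : Γ(bc E T, W)) (K : QElt E e T') :
    pb a x ∈ K.1 (a.left ⁻¹ᵁ W) ↔ pb b x ∈ K.1 (b.left ⁻¹ᵁ W) := by
  subst h
  rfl

/-- Quotients glue. -/
theorem exists_glue {ι : Type u} {V : ι → Over X} (a : ∀ i, V i ⟶ T) [∀ i, IsOpenImmersion (a i).left]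
    (ha : ∀ x : T.left, ∃ i, x ∈ (a i).left.opensRange) (K : ∀ i, QElt E e (V i))
    (hK : ∀ i l (P : Over X) (b : P ⟶ V i) (c : P ⟶ V l), IsOpenImmersion b.left → IsOpenImmersion c.left →
      b ≫ a i = c ≫ a l → pull b (K i) = pull c (K l)) :
    ∃ G : QElt E e T, ∀ i, pull (a i) G = K i := by
  classical
  let M : ι → T.left.Modules := fun i => (Scheme.Modules.pushforward (a i).left).obj (K i).mod
  let s' : ∀ i, bc E T ⟶ M i := fun i =>
    ((Scheme.Modules.pullbackPushforwardAdjunction (a i).left).homEquiv _ _) (inv (bcMap (a i)) ≫ (K i).quot)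
  have hs' : ∀ i (W : T.left.Opens) (x : Γ(bc E T, W)),
      (s' i).app W x = 0 ↔ pb (a i) x ∈ (K i).1 ((a i).left ⁻¹ᵁ W) := by
    intro i W x
    conv_rhs => rw [← (K i).kerSet_quot]
    simp only [s', Adjunction.homEquiv_unit]
    rfl
  have hcomp : ∀ i l (W : T.left.Opens) (x : Γ(bc E T, W)), W ≤ (a i).left.opensRange → W ≤ (a l).left.opensRange →
      (pb (a i) x ∈ (K i).1 ((a i).left ⁻¹ᵁ W) ↔ pb (a l) x ∈ (K l).1 ((a l).left ⁻¹ᵁ W)) := by
    intro i l W x hi hl
    let P : Over X := Over.mk (pullback.fst (a i).left (a l).left ≫ (V i).hom)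
    let b : P ⟶ V i := Over.homMk (pullback.fst (a i).left (a l).left) rfl
    let c : P ⟶ V l := Over.homMk (pullback.snd (a i).left (a l).left) (by
      show _ = pullback.fst (a i).left (a l).left ≫ (V i).hom
      rw [← Over.w (a l), ← Over.w (a i), pullback.condition_assoc])
    haveI : IsOpenImmersion b.left := (inferInstance : IsOpenImmersion (pullback.fst (a i).left (a l).left))
    haveI : IsOpenImmersion c.left := (inferInstance : IsOpenImmersion (pullback.snd (a i).left (a l).left))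
    have hbc : b ≫ a i = c ≫ a l := Over.OverMorphism.ext pullback.condition
    have hr : ∀ {m} (d : P ⟶ V m) [IsOpenImmersion d.left], (∀ y : T.left, y ∈ W → ∃ z, (d ≫ a m).left z = y) →
        (a m).left ⁻¹ᵁ W ≤ d.left.opensRange := by
      intro m d _ hd y hy
      obtain ⟨z, hz⟩ := hd _ hy
      exact ⟨z, (a m).left.isOpenEmbedding.injective hz⟩
    have hsur : ∀ y : T.left, y ∈ W → ∃ z, (b ≫ a i).left z = y := by
      intro y hy
      obtain ⟨yi, hyi⟩ := hi hy
      obtain ⟨yl, hyl⟩ := hl hy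
      obtain ⟨z, hz, -⟩ := Scheme.Pullback.exists_preimage_pullback yi yl (hyi.trans hyl.symm)
      refine ⟨z, ?_⟩
      show (a i).left (b.left z) = y
      rw [← hyi]
      exact congrArg _ hz
    rw [← mem_pull_iff b (K i) (hr b hsur), ← mem_pull_iff c (K l) (hr c
      (fun y hy => hbc ▸ hsur y hy)), ← pb_comp, ← pb_comp, hK i l P b c inferInstance inferInstance hbc]
    exact pb_congr hbc x _
  let s : bc E T ⟶ ∏ᶜ M := Pi.lift s'
  have hzero : ∀ i (W : T.left.Opens) (x : Γ(bc E T, W)), W ≤ (a i).left.opensRange →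
      ((Abelian.factorThruImage s).app W x = 0 ↔ pb (a i) x ∈ (K i).1 ((a i).left ⁻¹ᵁ W)) := by
    intro i W x hi
    have hπ : ∀ l, (Pi.π M l).app W (s.app W x) = (s' l).app W x := fun l =>
      congrArg (fun g : bc E T ⟶ M l => g.app W x) (Pi.lift_π s' l)
    have hfac : s.app W x = (Abelian.image.ι s).app W ((Abelian.factorThruImage s).app W x) :=
      congrArg (fun g : bc E T ⟶ ∏ᶜ M => g.app W x) (Abelian.image.fac s).symm
    constructor
    · intro h
      rw [← hs', ← hπ, hfac, h, map_zero, map_zero]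
    · intro h
      refine Coherent.app_injective_of_mono (Abelian.image.ι s) W ?_
      rw [← hfac, map_zero]
      refine pi_sections_ext M fun l => ?_
      rw [hπ, map_zero]
      have hW' : (a l).left ⁻¹ᵁ W = (a l).left ⁻¹ᵁ (W ⊓ (a l).left.opensRange) :=
        le_antisymm (fun z hz => ⟨hz, z, rfl⟩) ((a l).left.preimage_mono inf_le_left)
      have h1 : (s' l).app _ (resM (bc E T) (inf_le_left : W ⊓ (a l).left.opensRange ≤ W) x) = 0 := by
        rw [hs', ← hcomp i l _ _ (inf_le_left.trans hi) inf_le_right, ← hs', app_resM, (hs' i W x).2 h, map_zero]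
      rw [app_resM] at h1
      have hinj : ∀ (A B : (V l).left.Opens) (h₀ : A = B) (hle : A ≤ B) (z : Γ((K l).mod, B)),
          resM (K l).mod hle z = 0 → z = 0 := by
        rintro A B rfl hle z hz
        rwa [resM_self] at hz
      exact hinj _ _ hW'.symm ((a l).left.preimage_mono inf_le_left) _ h1
  haveI : ∀ i, Epi (Grass.quotBC (Over.w (a i)) (Abelian.factorThruImage s)) := fun i =>
    epi_quotBC (Abelian.factorThruImage s) (Over.w (a i))
  have hker : ∀ i, kerSet (Grass.quotBC (Over.w (a i)) (Abelian.factorThruImage s)) = (K i).1 := by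
    intro i
    funext V'
    ext y
    obtain ⟨W, hW, rfl⟩ : ∃ W : T.left.Opens, W ≤ (a i).left.opensRange ∧ (a i).left ⁻¹ᵁ W = V' :=
      ⟨(a i).left ''ᵁ V', (a i).left.image_le_opensRange V', (a i).left.preimage_image_eq V'⟩
    obtain ⟨x, rfl⟩ := (bijective_pb (a i) hW).2 y
    show (Grass.quotBC _ _).app _ (pb (a i) x) = 0 ↔ _
    rw [quotBC_pb, ← hzero i W x hW]
    exact map_eq_zero_iff ((Scheme.Modules.pullbackPushforwardAdjunction (a i).left).unit.app _ |>.app W).hom
      (CAlgSmall.QBridge.bijective_pullSec_of_le (a i).left _ hW).1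
  have hiso : ∀ i, ∃ j : (Scheme.Modules.pullback (a i).left).obj (Abelian.image s) ≅ (K i).mod,
      Grass.quotBC (Over.w (a i)) (Abelian.factorThruImage s) ≫ j.hom = (K i).quot := fun i => by
    haveI := (K i).epi
    exact exists_iso_of_kerSet_eq _ _ ((hker i).trans (K i).kerSet_quot.symm)
  have hrank : FlatMod.IsFinLocFreeOfRank e (Abelian.image s) := fun x => by
    obtain ⟨i, y, rfl⟩ := ha x
    obtain ⟨j, -⟩ := hiso i
    obtain ⟨U, hy, ⟨f⟩⟩ := (K i).rank y
    let O := (a i).left ''ᵁ U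
    refine ⟨O, ⟨y, hy, rfl⟩, ?_⟩
    let l : O.toScheme ⟶ U.toScheme := IsOpenImmersion.lift (U.ι ≫ (a i).left) O.ι (by
      rw [Scheme.Opens.range_ι]
      rintro _ ⟨z, hz, rfl⟩
      exact ⟨⟨z, hz⟩, rfl⟩)
    have hl : l ≫ U.ι ≫ (a i).left = O.ι := IsOpenImmersion.lift_fac _ _ _
    exact ⟨(Scheme.Modules.restrictFunctorIsoPullback O.ι).app _ ≪≫
      (Scheme.Modules.pullbackCongr hl.symm).app _ ≪≫
      ((Scheme.Modules.pullbackComp l (U.ι ≫ (a i).left)).app _).symm ≪≫
      (Scheme.Modules.pullback l).mapIso (((Scheme.Modules.pullbackComp U.ι (a i).left).app _).symm ≪≫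
        (Scheme.Modules.pullback U.ι).mapIso j ≪≫ ((Scheme.Modules.restrictFunctorIsoPullback U.ι).app _).symm ≪≫ f) ≪≫
      PreservesCoproduct.iso (Scheme.Modules.pullback l) (fun _ : Fin e => Coh.structureModule _) ≪≫
      Sigma.mapIso fun _ => PicLoc.pullbackStructureIso l⟩
  refine ⟨mk (Abelian.factorThruImage s) hrank inferInstance, fun i => ?_⟩
  rw [pull_mk]
  exact Subtype.ext (hker i)

end QElt

variable (E e) in
/-- The functor of rank `e` quotients. -/
noncomputable def qFun : (Over X)ᵒᵖ ⥤ Type u where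
  obj T := QElt E e T.unop
  map t := TypeCat.ofHom fun K => QElt.pull t.unop K
  map_id T := ConcreteCategory.hom_ext _ _ fun K => QElt.pull_id K
  map_comp a b := ConcreteCategory.hom_ext _ _ fun K => QElt.pull_comp a.unop b.unop K

theorem isSheaf_qFun : Presheaf.IsSheaf (Scheme.zariskiTopology.over X) (qFun E e) := by
  rw [isSheaf_iff_isSheaf_of_type]
  intro T R hR x hx
  obtain ⟨(𝒱 : Scheme.OpenCover.{u} T.left), hle⟩ :=
    Scheme.exists_cover_of_mem_grothendieckTopology ((GrothendieckTopology.mem_over_iff _ R).1 hR)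
  let V : 𝒱.I₀ → Over X := fun i => Over.mk (𝒱.f i ≫ T.hom)
  let a : ∀ i, V i ⟶ T := fun i => Over.homMk (𝒱.f i) rfl
  haveI : ∀ i, IsOpenImmersion (a i).left := fun i => (inferInstance : IsOpenImmersion (𝒱.f i))
  have hmem : ∀ i, R (a i) := fun i => (Sieve.overEquiv_iff R (𝒱.f i)).1 (hle _ _ (Presieve.ofArrows.mk i))
  have hcov : ∀ y : T.left, ∃ i, y ∈ (a i).left.opensRange := fun y => ⟨𝒱.idx y, 𝒱.covers y⟩
  obtain ⟨G, hG⟩ := QElt.exists_glue a hcov (fun i => x (a i) (hmem i)) fun i l P b c _ _ h =>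
    hx b c (hmem i) (hmem l) h
  refine ⟨G, fun W f hf => ?_, fun G' hG' => ?_⟩
  · let P : 𝒱.I₀ → Over X := fun i => Over.mk (pullback.fst f.left (𝒱.f i) ≫ W.hom)
    let c : ∀ i, P i ⟶ W := fun i => Over.homMk (pullback.fst f.left (𝒱.f i)) rfl
    haveI : ∀ i, IsOpenImmersion (c i).left := fun i => (inferInstance : IsOpenImmersion (pullback.fst f.left (𝒱.f i)))
    refine QElt.ext_cover c (fun y => ?_) fun i => ?_
    · obtain ⟨i, z, hz⟩ := hcov (f.left y)
      obtain ⟨w, hw, -⟩ := Scheme.Pullback.exists_preimage_pullback y z hz.symm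
      exact ⟨i, w, hw⟩
    · let d : P i ⟶ V i := Over.homMk (pullback.snd f.left (𝒱.f i)) (by
        show _ ≫ 𝒱.f i ≫ T.hom = pullback.fst f.left (𝒱.f i) ≫ W.hom
        rw [← pullback.condition_assoc, Over.w f])
      have hd : c i ≫ f = d ≫ a i := Over.OverMorphism.ext pullback.condition
      show QElt.pull (c i) (QElt.pull f G) = QElt.pull (c i) (x f hf)
      rw [← QElt.pull_comp, hd, QElt.pull_comp, hG]
      exact (hx (c i) d hf (hmem i) hd).symm
  · refine QElt.ext_cover a hcov fun i => ?_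
    rw [hG]
    exact hG' _ (hmem i)

end Groth.Agent.GrassLib
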