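import Groth.Agent.GrassLib.Rank

/-!
# Quotients over affine schemes
-/

set_option autoImplicit false
set_option linter.unusedSectionVars false
set_option backward.isDefEq.respectTransparency.types false
set_option maxHeartbeats 1000000

universe u

open CategoryTheory CategoryTheory.Limits AlgebraicGeometry Opposite TopologicalSpace
open Groth.Agent.Coherent Groth.Agent.PicLib
open scoped TensorProduct

namespace Groth.Agent.GrassLib

variable {n q : ℕ} {A B : CommRingCat.{u}}

/-- Ring elements as global functions. -/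
noncomputable def gm (A : CommRingCat.{u}) : A →+* Γ(Spec A, ⊤) := (Scheme.ΓSpecIso A).inv.hom

theorem gm_bijective (A : CommRingCat.{u}) : Function.Bijective (gm A) :=
  ConcreteCategory.bijective_of_isIso (Scheme.ΓSpecIso A).inv

theorem gm_map (ψ : A ⟶ B) (a : A) : (Spec.map ψ).appTop (gm A a) = gm B (ψ a) :=
  (ConcreteCategory.congr_hom (Scheme.ΓSpecIso_inv_naturality ψ) a).symm

/-- The evaluation at the sections. -/
noncomputable def evalMap (D : Datum n q (Spec A)) : (Fin n → A) →ₗ[A] topMod D.L where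
  toFun c := (show topMod D.L from ∑ j, gm A (c j) • D.t j)
  map_add' c d := by
    show ∑ j, gm A ((c + d) j) • D.t j = ∑ j, gm A (c j) • D.t j + ∑ j, gm A (d j) • D.t j
    simp only [Pi.add_apply, map_add, add_smul, Finset.sum_add_distrib]
  map_smul' a c := by
    rw [RingHom.id_apply, topMod_smul]
    show ∑ j, gm A ((a • c) j) • D.t j = gm A a • ∑ j, gm A (c j) • D.t j
    simp only [Pi.smul_apply, smul_eq_mul, map_mul, mul_smul, Finset.smul_sum]

theorem evalMap_apply (D : Datum n q (Spec A)) (c : Fin n → A) :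
    (show Γ(D.L, ⊤) from evalMap D c) = ∑ j, gm A (c j) • D.t j := rfl

theorem evalMap_surjective (D : Datum n q (Spec A)) : Function.Surjective (evalMap D) := by
  intro x
  obtain ⟨c, hc⟩ := D.surjective_top (show Γ(D.L, ⊤) from x)
  refine ⟨fun j => ((gm_bijective A).2 (c j)).choose, ?_⟩
  show ∑ j, gm A _ • D.t j = _
  simp only [fun j => ((gm_bijective A).2 (c j)).choose_spec]
  exact hc

/-- The global relations. -/
noncomputable def rel (D : Datum n q (Spec A)) : Submodule A (Fin n → A) := LinearMap.ker (evalMap D)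

theorem mem_rel {D : Datum n q (Spec A)} {c : Fin n → A} : c ∈ rel D ↔ (fun j => gm A (c j)) ∈ D.ker ⊤ := by
  show evalMap D c = 0 ↔ ∑ j, gm A (c j) • resM D.L le_rfl (D.t j) = 0
  simp only [resM_self]
  exact Iff.rfl

theorem ker_eq_of_rel_le {D D' : Datum n q (Spec A)} (h : rel D ≤ rel D') : D.ker = D'.ker := by
  refine D.ker_eq_of_top_le D' fun c hc => ?_
  obtain ⟨b, rfl⟩ : ∃ b : Fin n → A, (fun j => gm A (b j)) = c :=
    ⟨fun j => ((gm_bijective A).2 (c j)).choose, funext fun j => ((gm_bijective A).2 (c j)).choose_spec⟩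
  exact mem_rel.1 (h (mem_rel.2 hc))

theorem rel_congr {D D' : Datum n q (Spec A)} (h : D.ker = D'.ker) : rel D = rel D' := by
  ext c
  rw [mem_rel, mem_rel, h]

/-- The quotient by the relations. -/
noncomputable def relEquiv (D : Datum n q (Spec A)) : ((Fin n → A) ⧸ rel D) ≃ₗ[A] topMod D.L :=
  (evalMap D).quotKerEquivOfSurjective (evalMap_surjective D)

theorem finite_projective (D : Datum n q (Spec A)) :
    Module.Finite A (topMod D.L) ∧ Module.Projective A (topMod D.L) := by
  haveI := D.isQCoh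
  haveI : IsIso D.L.fromTildeΓ := (isIso_fromTildeΓ_iff_isLocalizing D.L).2
    fun f => spec_isLocalizedModule D.L f
  have h1 : FlatMod.IsFinLocFree D.L := fun x => by
    obtain ⟨U, hx, he⟩ := D.isFinLocFreeOfRank x
    exact ⟨U, q, hx, he⟩
  refine (Props12.isFinLocFree_tilde_iff (topMod D.L)).1 fun x => ?_
  obtain ⟨U, m, hx, ⟨e⟩⟩ := h1 x
  exact ⟨U, m, hx, ⟨(Scheme.Modules.restrictFunctor U.ι).mapIso (asIso D.L.fromTildeΓ) ≪≫ e⟩⟩

theorem rel_good (D : Datum n q (Spec A)) :
    Module.Finite A ((Fin n → A) ⧸ rel D) ∧ Module.Projective A ((Fin n → A) ⧸ rel D) ∧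
      ∀ p, Module.rankAtStalk (R := A) ((Fin n → A) ⧸ rel D) p = q := by
  obtain ⟨h1, h2⟩ := finite_projective D
  refine ⟨Module.Finite.equiv (relEquiv D).symm, Module.Projective.of_equiv (relEquiv D).symm, fun p => ?_⟩
  haveI := D.isQCoh
  obtain ⟨U, I, hp, hI⟩ := D.frame p
  rw [Module.rankAtStalk_eq_of_equiv (relEquiv D), rankAtStalk_of_isBasisOn hI p hp]
  simp

/-- A basis trivialises. -/
theorem exists_triv_of_isBasisOn {T : Scheme.{u}} {L : T.Modules} {U : T.Opens} {m : ℕ}
    {e : ULift.{u} (Fin m) → Γ(L, U)} (he : IsBasisOn L U e) :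
    Nonempty (L.restrict U.ι ≅ FlatMod.freeMod U.toScheme m) := by
  classical
  let P := (Scheme.Modules.pullback U.ι).obj L
  have hb : IsBasisOn P (⊤ : U.toScheme.Opens) fun i => resM P U.ι_preimage_self.symm.le (pullSec U.ι (e i)) :=
    FinCovLib29.isBasisOn_restrict (IsBasisOn.pull U.ι he) U.ι_preimage_self.symm.le
  let s : freeMod U.toScheme (ULift.{u} (Fin m)) ⟶ P :=
    freeDesc fun i => unitDesc P (resM P U.ι_preimage_self.symm.le (pullSec U.ι (e i)))
  haveI : IsIso s := by
    refine Scheme.Modules.Hom.isIso_iff_isIso_app.2 fun V => ?_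
    refine (ConcreteCategory.isIso_iff_bijective _).2 ?_
    convert (hb (le_top : V ≤ ⊤)).comp
      (freeSectionsEquiv (X := U.toScheme) (I := ULift.{u} (Fin m)) V).bijective using 1
    funext c
    refine (freeMod_app s c).trans (Finset.sum_congr rfl fun i _ => ?_)
    rw [show unitVal (freeInj i ≫ s) V = resM P (le_top : V ≤ ⊤) (resM P U.ι_preimage_self.symm.le (pullSec U.ι (e i))) from by
      rw [freeInj_freeDesc, ← resM_unitVal _ (le_top : V ≤ ⊤), unitVal_unitDesc]; all_goals (try rw [resM_resM])]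
    rfl
  exact ⟨(Scheme.Modules.restrictFunctorIsoPullback U.ι).app L ≪≫ (asIso s).symm ≪≫ Props12.freeModIso _ m⟩

/-- A good submodule gives a datum. -/
theorem exists_datum (N : Submodule A (Fin n → A)) [Module.Finite A ((Fin n → A) ⧸ N)]
    [Module.Projective A ((Fin n → A) ⧸ N)] (hr : ∀ p, Module.rankAtStalk (R := A) ((Fin n → A) ⧸ N) p = q) :
    ∃ D : Datum n q (Spec A), rel D = N := by
  classical
  let M : ModuleCat A := ModuleCat.of A ((Fin n → A) ⧸ N)
  let L := tilde M
  haveI : Coh.IsQCoh L := Props12.isQCoh_tilde M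
  have hlf : FlatMod.IsFinLocFree L := (Props12.isFinLocFree_tilde_iff M).2 ⟨‹_›, ‹_›⟩
  let ε : M ≃ₗ[A] topMod L := Props12.topEquiv M
  let t : Fin n → Γ(L, ⊤) := fun j => (show Γ(L, ⊤) from ε (N.mkQ (Pi.single j 1)))
  have heval : ∀ c : Fin n → A, (show topMod L from ∑ j, gm A (c j) • t j) = ε (N.mkQ c) := by
    intro c
    conv_rhs => rw [pi_eq_sum_univ' c, map_sum, map_sum]
    refine Finset.sum_congr rfl fun j _ => ?_
    rw [map_smul, map_smul, topMod_smul]
    rfl
  haveI : Epi (freeDesc fun j : ULift.{u} (Fin n) => unitDesc L (t j.down)) := by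
    refine ⟨fun {P} a b hab => sub_eq_zero.1 (eq_zero_of_top _ fun w => ?_)⟩
    obtain ⟨c, hc⟩ := N.mkQ_surjective (ε.symm (show topMod L from w))
    have hw : w = ∑ j, gm A (c j) • t j := by
      refine Eq.symm ?_
      exact (heval c).trans (by rw [hc]; exact ε.apply_symm_apply _)
    have ht : ∀ j, a.app ⊤ (t j) = b.app ⊤ (t j) := fun j => by
      have h1 := congrArg (fun g : freeMod (Spec A) (ULift.{u} (Fin n)) ⟶ P =>
        g.app ⊤ (freeBasisVec (X := Spec A) (ULift.up.{u} j) ⊤)) hab
      have h2 : (freeDesc fun j : ULift.{u} (Fin n) => unitDesc L (t j.down)).app ⊤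
          (freeBasisVec (X := Spec A) (ULift.up.{u} j) ⊤) = t j := by
        show unitVal (freeInj (ULift.up.{u} j) ≫ freeDesc _) ⊤ = _
        rw [freeInj_freeDesc]
        exact (unitVal_unitDesc L (t j) ⊤).trans (resM_self _ _ _)
      exact ((congrArg (a.app ⊤) h2).symm.trans h1).trans (congrArg (b.app ⊤) h2)
    show a.app ⊤ w - b.app ⊤ w = 0
    simp only [hw, map_sum, Scheme.Modules.Hom.app_smul, ht, sub_self]
  haveI : Module.Finite A (topMod L) := Module.Finite.equiv ε
  haveI : Module.Projective A (topMod L) := Module.Projective.of_equiv ε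
  have hrank : FlatMod.IsFinLocFreeOfRank q L := fun x => by
    obtain ⟨U, m, e, hx, he⟩ := exists_isBasisOn hlf x
    have hm : m = q := by
      have h1 := rankAtStalk_of_isBasisOn he x hx
      rw [Fintype.card_ulift, Fintype.card_fin] at h1
      rw [← h1, ← Module.rankAtStalk_eq_of_equiv ε]
      exact hr x
    subst hm
    exact ⟨U, hx, exists_triv_of_isBasisOn he⟩
  refine ⟨Datum.ofEpi hrank t, ?_⟩
  ext c
  show (show topMod L from ∑ j, gm A (c j) • t j) = 0 ↔ c ∈ N
  rw [heval, LinearEquiv.map_eq_zero_iff, Submodule.mkQ_apply, Submodule.Quotient.mk_eq_zero]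

/-- Inverse images of relations contain the images of relations. -/
theorem map_mem_rel_pull (ψ : A ⟶ B) (D : Datum n q (Spec A)) {c : Fin n → A} (hc : c ∈ rel D) :
    (fun j => ψ (c j)) ∈ rel (D.pull (Spec.map ψ)) := by
  rw [mem_rel] at hc ⊢
  show _ = _
  have h1 := congrArg (pullSec (Spec.map ψ)) hc
  rw [Datum.pullSec_sum] at h1
  simp only [pullSec_smul, ← resM_pullSec] at h1
  refine Eq.trans (Finset.sum_congr rfl fun j _ => ?_) (h1.trans
    (map_zero (((Scheme.Modules.pullbackPushforwardAdjunction (Spec.map ψ)).unit.app D.L).app ⊤).hom))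
  show gm B (ψ (c j)) • _ = _
  rw [← gm_map]
  rfl

/-- Relations of an inverse image, from any submodule spanned by images of relations. -/
theorem rel_pull_eq (ψ : A ⟶ B) (D : Datum n q (Spec A)) (D' : Datum n q (Spec B))
    (h : rel D' ≤ Submodule.span B ((fun c : Fin n → A => fun j => ψ (c j)) '' (rel D : Set (Fin n → A)))) :
    rel (D.pull (Spec.map ψ)) = rel D' := by
  have hle : rel D' ≤ rel (D.pull (Spec.map ψ)) :=
    h.trans (Submodule.span_le.2 fun _ ⟨c, hc, e⟩ => e ▸ map_mem_rel_pull ψ D hc)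
  exact (rel_congr (ker_eq_of_rel_le hle)).symm

end Groth.Agent.GrassLib
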