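import Groth.Agent.GrassLib.Points

/-!
# Representing `Module.Grassmannian.functor` for free modules
-/

set_option autoImplicit false
set_option linter.unusedSectionVars false
set_option backward.isDefEq.respectTransparency.types false
set_option maxHeartbeats 1000000

universe u

open CategoryTheory CategoryTheory.Limits AlgebraicGeometry Opposite TopologicalSpace
open scoped TensorProduct

namespace Groth.Agent.GrassLib

variable {n q : ℕ} {R : Type u} [CommRing R]

/-- `A ⊗ R^n = A^n`. -/
noncomputable def kappa (A : Type u) [CommRing A] [Algebra R A] (n : ℕ) :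
    A ⊗[R] (Fin n → R) ≃ₗ[A] (Fin n → A) :=
  TensorProduct.piScalarRight R A A (Fin n)

theorem kappa_tmul (A : Type u) [CommRing A] [Algebra R A] (a : A) (m : Fin n → R) :
    kappa A n (a ⊗ₜ m) = fun j => m j • a :=
  funext fun j => by simp [kappa]

theorem kappa_map {A B : Type u} [CommRing A] [Algebra R A] [CommRing B] [Algebra R B] [Algebra A B]
    [IsScalarTower R A B] (b : B) (x : A ⊗[R] (Fin n → R)) :
    kappa B n (TensorProduct.AlgebraTensorModule.cancelBaseChange R A B B (Fin n → R) (b ⊗ₜ x)) =
      fun j => b * algebraMap A B (kappa A n x j) := by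
  induction x using TensorProduct.induction_on with
  | zero => funext j; simp
  | tmul a m =>
    funext j
    rw [TensorProduct.AlgebraTensorModule.cancelBaseChange_tmul, kappa_tmul, kappa_tmul]
    simp only [Algebra.smul_def, map_mul, ← IsScalarTower.algebraMap_apply]
    ring
  | add x y hx hy => funext j; simp [TensorProduct.tmul_add, hx, hy, mul_add]

theorem map_le_span {A B : CommAlgCat.{u} R} (φ : A ⟶ B) (N : Module.Grassmannian A (A ⊗[R] (Fin n → R)) q) :
    (Module.Grassmannian.map φ.hom N).toSubmodule.map (kappa B n).toLinearMap ≤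
      Submodule.span B ((fun c : Fin n → A => fun j => φ.hom (c j)) ''
        (N.toSubmodule.map (kappa A n).toLinearMap : Set (Fin n → A))) := by
  letI : Algebra A B := φ.hom.toAlgebra
  letI : IsScalarTower R A B := IsScalarTower.of_algebraMap_eq' φ.hom.comp_algebraMap.symm
  rintro _ ⟨z, hz, rfl⟩
  rw [SetLike.mem_coe, Module.Grassmannian.map_toSubmodule, LinearMap.mem_ker] at hz
  have hex : Function.Exact (N.toSubmodule.subtype.lTensor B) (N.toSubmodule.mkQ.lTensor B) :=
    lTensor_exact B (LinearMap.exact_subtype_mkQ _) (Submodule.mkQ_surjective _)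
  obtain ⟨w, hw⟩ := (hex ((TensorProduct.AlgebraTensorModule.cancelBaseChange R A B B (Fin n → R)).symm z)).1 hz
  rw [← (TensorProduct.AlgebraTensorModule.cancelBaseChange R A B B (Fin n → R)).apply_symm_apply z, ← hw]
  clear hw
  induction w using TensorProduct.induction_on with
  | zero => simp
  | tmul b x =>
    rw [LinearMap.lTensor_tmul]
    show kappa B n _ ∈ _
    rw [kappa_map]
    have e : (fun j => b * algebraMap A B (kappa A n (N.toSubmodule.subtype x) j)) =
        b • fun j => φ.hom (kappa A n (x : A ⊗[R] (Fin n → R)) j) := funext fun _ => rfl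
    rw [e]
    exact Submodule.smul_mem _ _ (Submodule.subset_span ⟨_, ⟨_, x.2, rfl⟩, rfl⟩)
  | add x y hx hy =>
    simp only [map_add]
    exact add_mem hx hy

variable (n q) in
/-- The point of the Grassmannian functor given by a datum. -/
noncomputable def toGrass (A : CommAlgCat.{u} R) (D : Datum n q (Spec (CommRingCat.of A))) :
    Module.Grassmannian A (A ⊗[R] (Fin n → R)) q :=
  let e := Submodule.Quotient.equiv ((rel D).comap (kappa A n).toLinearMap) (rel D) (kappa A n)
    (Submodule.map_comap_eq_of_surjective (kappa (R := R) A n).surjective _)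
  { toSubmodule := (rel D).comap (kappa A n).toLinearMap
    finite_quotient := haveI := (rel_good D).1; Module.Finite.equiv e.symm
    projective_quotient := haveI := (rel_good D).2.1; Module.Projective.of_equiv e.symm
    rankAtStalk_eq := fun p => (congrFun (Module.rankAtStalk_eq_of_equiv e) p).trans ((rel_good D).2.2 p) }

theorem toGrass_eq_iff (A : CommAlgCat.{u} R) (D D' : Datum n q (Spec (CommRingCat.of A))) :
    toGrass n q A D = toGrass n q A D' ↔ D.ker = D'.ker := by
  refine ⟨fun h => ?_, fun h => Module.Grassmannian.ext (by simp only [toGrass]; rw [rel_congr h])⟩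
  refine ker_eq_of_rel_le (le_of_eq ?_)
  exact Submodule.comap_injective_of_surjective (kappa (R := R) A n).surjective
    (congrArg Module.Grassmannian.toSubmodule h)

theorem exists_toGrass_eq (A : CommAlgCat.{u} R) (N : Module.Grassmannian A (A ⊗[R] (Fin n → R)) q) :
    ∃ D : Datum n q (Spec (CommRingCat.of A)), toGrass n q A D = N := by
  let N' := N.toSubmodule.map (kappa (R := R) A n).toLinearMap
  let e := Submodule.Quotient.equiv N.toSubmodule N' (kappa (R := R) A n) rfl
  haveI : Module.Finite A ((Fin n → A) ⧸ N') := Module.Finite.equiv e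
  haveI : Module.Projective A ((Fin n → A) ⧸ N') := Module.Projective.of_equiv e
  obtain ⟨D, hD⟩ := exists_datum (A := CommRingCat.of A) N' fun p =>
    (congrFun (Module.rankAtStalk_eq_of_equiv e.symm) p).trans (N.rankAtStalk_eq p)
  refine ⟨D, Module.Grassmannian.ext ?_⟩
  show (rel D).comap _ = _
  rw [hD]
  exact Submodule.comap_map_eq_of_injective (kappa (R := R) A n).injective _

theorem toGrass_pull {A B : CommAlgCat.{u} R} (φ : A ⟶ B) (D : Datum n q (Spec (CommRingCat.of A))) :
    toGrass n q B (D.pull (Spec.map (CommRingCat.ofHom φ.hom.toRingHom))) =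
      Module.Grassmannian.map φ.hom (toGrass n q A D) := by
  obtain ⟨D', hD'⟩ := exists_toGrass_eq B (Module.Grassmannian.map φ.hom (toGrass n q A D))
  rw [← hD']
  refine (toGrass_eq_iff B _ _).2 (ker_eq_of_rel_le (le_of_eq (rel_pull_eq _ D D' ?_)))
  have h1 := map_le_span φ (toGrass n q A D)
  rw [← hD'] at h1
  simp only [toGrass, Submodule.map_comap_eq_of_surjective (kappa (R := R) B n).surjective,
    Submodule.map_comap_eq_of_surjective (kappa (R := R) A n).surjective] at h1
  exact h1

/-- The class determines the point. -/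
noncomputable def eltEquiv (A : CommAlgCat.{u} R) :
    Elt n q (Spec (CommRingCat.of A)) ≃ Module.Grassmannian A (A ⊗[R] (Fin n → R)) q :=
  Equiv.ofBijective (fun E => toGrass n q A E.datum)
    ⟨fun E E' h => E.mk_datum.symm.trans ((Elt.mk_eq_mk.2 ((toGrass_eq_iff A _ _).1 h)).trans E'.mk_datum),
      fun N => by
        obtain ⟨D, hD⟩ := exists_toGrass_eq A N
        exact ⟨Elt.mk D, ((toGrass_eq_iff A _ _).2 (Elt.mk_eq_mk.1 (Elt.mk D).mk_datum)).trans hD⟩⟩

theorem eltEquiv_pull {A B : CommAlgCat.{u} R} (φ : A ⟶ B) (E : Elt n q (Spec (CommRingCat.of A))) :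
    eltEquiv B (E.pull (Spec.map (CommRingCat.ofHom φ.hom.toRingHom))) =
      Module.Grassmannian.map φ.hom (eltEquiv A E) := by
  show toGrass n q B _ = Module.Grassmannian.map φ.hom (toGrass n q A E.datum)
  rw [← toGrass_pull φ E.datum]
  exact (toGrass_eq_iff B _ _).2 (Elt.mk_eq_mk.1 (Elt.mk_datum _))

variable (n q R) in
/-- The Grassmannian over `R`. -/
noncomputable def GrOver : Over (Spec (CommRingCat.of R)) :=
  Over.mk (pullback.snd (specULiftZIsTerminal.from (Gr.{u} n q)) (specULiftZIsTerminal.from (Spec (CommRingCat.of R))))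

/-- Points over an algebra are morphisms to the absolute Grassmannian. -/
noncomputable def homOverEquiv (T : Over (Spec (CommRingCat.of R))) :
    (T ⟶ GrOver n q R) ≃ (T.left ⟶ Gr.{u} n q) where
  toFun g := g.left ≫ pullback.fst _ _
  invFun g := Over.homMk (pullback.lift g T.hom (specULiftZIsTerminal.hom_ext _ _)) (pullback.lift_snd _ _ _)
  left_inv g := Over.OverMorphism.ext (pullback.hom_ext (pullback.lift_fst _ _ _)
    ((pullback.lift_snd _ _ _).trans (Over.w g).symm))
  right_inv g := pullback.lift_fst _ _ _

variable (n q R) in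
/-- The Grassmannian of a free module represents Mathlib's functor. -/
noncomputable def repFree (A : CommAlgCat.{u} R) :
    (Over.mk (Spec.map (CommRingCat.ofHom (algebraMap R A))) ⟶ GrOver n q R) ≃
      (Module.Grassmannian.functor (R := R) (M := Fin n → R) q).obj A :=
  (homOverEquiv _).trans ((representableBy (n := n) (q := q)).homEquiv.trans (eltEquiv A))

theorem repFree_natural (A B : CommAlgCat.{u} R) (φ : A ⟶ B)
    (g : Over.mk (Spec.map (CommRingCat.ofHom (algebraMap R A))) ⟶ GrOver n q R)
    (g' : Over.mk (Spec.map (CommRingCat.ofHom (algebraMap R B))) ⟶ GrOver n q R)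
    (h : g'.left = Spec.map (CommRingCat.ofHom φ.hom.toRingHom) ≫ g.left) :
    repFree n q R B g' = (Module.Grassmannian.functor (R := R) (M := Fin n → R) q).map φ (repFree n q R A g) := by
  show eltEquiv B (representableBy.homEquiv (g'.left ≫ pullback.fst _ _)) = _
  rw [h]
  erw [Category.assoc, representableBy.homEquiv_comp]
  exact eltEquiv_pull φ _

end Groth.Agent.GrassLib
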