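import Groth.Agent.GrassLib.Modules
import Groth.Agent.H8Coh.VanishLocus
import Groth.Agent.H8Coh.ClosedLocus
import Groth.Agent.EGA43.InjFibre.Scheme

/-!
# The zero locus of a homomorphism into a locally free module
-/

set_option autoImplicit false
set_option linter.unusedSectionVars false
set_option backward.isDefEq.respectTransparency.types false
set_option maxHeartbeats 1000000

universe u

open CategoryTheory CategoryTheory.Limits AlgebraicGeometry Opposite TopologicalSpace
open Groth.Agent.Coherent Groth.Agent.PicLib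

namespace Groth.Agent.GrassLib

variable {T T' : Scheme.{u}}

/-- On an affine scheme the inverse image of a map vanishes when the pulled back global values do. -/
theorem pullback_map_eq_zero_iff_top [IsAffine T] (a : T' ⟶ T) {M N : T.Modules} [Coh.IsQCoh M] (φ : M ⟶ N) :
    (Scheme.Modules.pullback a).map φ = 0 ↔ ∀ w : Γ(M, ⊤), pullSec a (φ.app ⊤ w) = 0 := by
  have h1 : ((Scheme.Modules.pullbackPushforwardAdjunction a).homEquiv _ _) ((Scheme.Modules.pullback a).map φ) =
      φ ≫ (Scheme.Modules.pullbackPushforwardAdjunction a).unit.app N := by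
    rw [Adjunction.homEquiv_unit]
    exact ((Scheme.Modules.pullbackPushforwardAdjunction a).unit.naturality φ).symm
  have h2 : (Scheme.Modules.pullback a).map φ = 0 ↔ φ ≫ (Scheme.Modules.pullbackPushforwardAdjunction a).unit.app N = 0 := by
    rw [← h1]
    constructor
    · intro h
      rw [h, Adjunction.homEquiv_unit, Functor.map_zero, comp_zero]
    · intro h
      apply ((Scheme.Modules.pullbackPushforwardAdjunction a).homEquiv _ _).injective
      rw [h, Adjunction.homEquiv_unit, Functor.map_zero, comp_zero]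
  rw [h2]
  refine ⟨fun h w => ?_, fun h => eq_zero_of_top _ h⟩
  exact congrArg (fun g : M ⟶ (Scheme.Modules.pushforward a).obj _ => g.app ⊤ w) h

/-- Vanishing of a pulled back section, by coordinates. -/
theorem pullSec_eq_zero_iff_coef (a : T' ⟶ T) {N : T.Modules} {I : Type u} [Fintype I] {e : I → Γ(N, ⊤)}
    (he : IsBasisOn N ⊤ e) (x : Γ(N, ⊤)) :
    pullSec a x = 0 ↔ ∀ i, a.app ⊤ (he.coef le_rfl x i) = 0 := by
  have h1 := he.coef_spec le_rfl x
  simp only [resM_self] at h1
  have h2 : pullSec a x = ∑ i, a.app ⊤ (he.coef le_rfl x i) • pullSec a (e i) := by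
    conv_lhs => rw [← h1]
    refine (map_sum (((Scheme.Modules.pullbackPushforwardAdjunction a).unit.app N).app ⊤).hom _ _).trans ?_
    exact Finset.sum_congr rfl fun i _ => pullSec_smul a _ _
  constructor
  · intro h
    have hb := (IsBasisOn.pull a he) (le_refl (a ⁻¹ᵁ ⊤))
    have h3 : (fun i => a.app ⊤ (he.coef le_rfl x i)) = 0 := by
      refine hb.1 ?_
      simp only [resM_self, Pi.zero_apply, zero_smul, Finset.sum_const_zero]
      exact h2.symm.trans h
    exact fun i => congrFun h3 i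
  · intro h
    rw [h2]
    exact Finset.sum_eq_zero fun i _ => by rw [h i]; exact zero_smul _ _

/-- The zero locus of a homomorphism into a finite locally free module is a closed subscheme. -/
theorem exists_zero_locus {q : ℕ} {M N : T.Modules} (hM : Coh.IsQCoh M) (hN : FlatMod.IsFinLocFreeOfRank q N)
    (φ : M ⟶ N) :
    ∃ (Z : Scheme.{u}) (j : Z ⟶ T), IsClosedImmersion j ∧
      ∀ (U : Scheme.{u}) (g : U ⟶ T), (Scheme.Modules.pullback g).map φ = 0 ↔ ∃ h : U ⟶ Z, h ≫ j = g := by
  refine H8Coh.exists_closed_locus (fun U g => (Scheme.Modules.pullback g).map φ = 0)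
    (fun U U' h g hg => H8Coh.pullback_map_comp_eq_zero φ h g hg)
    (fun U g hg => H8Coh.eq_zero_of_pullback_opens _ fun x => by
      obtain ⟨U', hx, hU'⟩ := hg x
      exact ⟨U', hx, (H8Coh.pullback_map_map_eq_zero_iff φ _ g).2 hU'⟩) fun t => ?_
  obtain ⟨O, e, htO, he⟩ := FinCovLib29.exists_isBasisOn_of_rank hN t
  refine ⟨O, htO, fun W hW hWO => ?_⟩
  haveI : IsAffine W.toScheme := hW
  haveI : Coh.IsQCoh ((Scheme.Modules.pullback W.ι).obj M) := EGA43.InjFibre.isQCoh_pullback W.ι M
  let e' : ULift.{u} (Fin q) → Γ((Scheme.Modules.pullback W.ι).obj N, ⊤) := fun i =>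
    resM _ (show (⊤ : W.toScheme.Opens) ≤ W.ι ⁻¹ᵁ O from W.ι_preimage_self.ge.trans (W.ι.preimage_mono hWO))
      (pullSec W.ι (e i))
  have he' : IsBasisOn ((Scheme.Modules.pullback W.ι).obj N) ⊤ e' := fun V hV => by
    simpa only [e', resM_resM] using IsBasisOn.pull W.ι he (hV.trans
      (W.ι_preimage_self.ge.trans (W.ι.preimage_mono hWO)))
  let φW := (Scheme.Modules.pullback W.ι).map φ
  refine ⟨Ideal.span {c | ∃ w i, W.topIso.hom (he'.coef le_rfl (φW.app ⊤ w) i) = c}, fun C ψ => ?_⟩
  show (Scheme.Modules.pullback (Spec.map ψ ≫ hW.fromSpec)).map φ = 0 ↔ _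
  rw [show Spec.map ψ ≫ hW.fromSpec = (Spec.map ψ ≫ hW.isoSpec.inv) ≫ W.ι from (Category.assoc _ _ _).symm,
    ← H8Coh.pullback_map_map_eq_zero_iff, pullback_map_eq_zero_iff_top, Ideal.span_le]
  have key : ∀ c : Γ(W.toScheme, ⊤), (Spec.map ψ ≫ hW.isoSpec.inv).appTop c = 0 ↔ ψ (W.topIso.hom c) = 0 := by
    intro c
    have h1 : (Spec.map ψ ≫ hW.isoSpec.inv).appTop = W.topIso.hom ≫ ψ ≫ (Scheme.ΓSpecIso C).inv := by
      rw [Scheme.Hom.comp_appTop, hW.isoSpec_inv_appTop, Category.assoc, Scheme.ΓSpecIso_inv_naturality]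
    rw [h1, CommRingCat.comp_apply, CommRingCat.comp_apply,
      map_eq_zero_iff _ (ConcreteCategory.bijective_of_isIso (Scheme.ΓSpecIso C).inv).1]
  constructor
  · rintro h _ ⟨w, i, rfl⟩
    exact (key _).1 ((pullSec_eq_zero_iff_coef _ he' _).1 (h w) i)
  · exact fun h w => (pullSec_eq_zero_iff_coef _ he' _).2 fun i => (key _).2 (h ⟨w, i, rfl⟩)

end Groth.Agent.GrassLib
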