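import Groth.Agent.GrassLib.Classify
import Groth.Agent.GrassLib.ZeroLocus

/-!
# The Grassmannian of a quotient module inside that of the module
-/

set_option autoImplicit false
set_option linter.unusedSectionVars false
set_option backward.isDefEq.respectTransparency false
set_option maxHeartbeats 1000000

universe u

open CategoryTheory CategoryTheory.Limits AlgebraicGeometry

namespace Groth.Agent.GrassLib

/-- A map out of the inverse image killing the kernel descends along an epimorphism. -/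
theorem exists_desc_pullback {X T : Scheme.{u}} (g : T ⟶ X) {E₁ E₂ : X.Modules} (v : E₁ ⟶ E₂) [Epi v] {L : T.Modules}
    (t : (Scheme.Modules.pullback g).obj E₁ ⟶ L) (ht : (Scheme.Modules.pullback g).map (kernel.ι v) ≫ t = 0) :
    ∃ s : (Scheme.Modules.pullback g).obj E₂ ⟶ L, (Scheme.Modules.pullback g).map v ≫ s = t := by
  let hc : IsColimit (CokernelCofork.ofπ v (kernel.condition v)) :=
    Abelian.epiIsCokernelOfKernel (KernelFork.ofι (kernel.ι v) (kernel.condition v)) (kernelIsKernel v)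
  haveI : (Scheme.Modules.pullback g).IsLeftAdjoint := (Scheme.Modules.pullbackPushforwardAdjunction g).isLeftAdjoint
  have hc' := CokernelCofork.mapIsColimit _ hc (Scheme.Modules.pullback g)
  exact ⟨_, hc'.fac (CokernelCofork.ofπ t ht) WalkingParallelPair.one⟩

/-- Inverse images of locally free modules of rank `n`. -/
theorem isFinLocFreeOfRank_pullback {X Y : Scheme.{u}} (f : Y ⟶ X) {n : ℕ} {M : X.Modules}
    (h : FlatMod.IsFinLocFreeOfRank n M) :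
    FlatMod.IsFinLocFreeOfRank n ((Scheme.Modules.pullback f).obj M) := fun y => by
  obtain ⟨U, hx, ⟨e⟩⟩ := h (f y)
  refine ⟨f ⁻¹ᵁ U, hx, ⟨?_⟩⟩
  exact (Scheme.Modules.restrictFunctorIsoPullback (f ⁻¹ᵁ U).ι).app _ ≪≫
    ((Scheme.Modules.pullbackComp (f ⁻¹ᵁ U).ι f) ≪≫
      Scheme.Modules.pullbackCongr (morphismRestrict_ι f U).symm ≪≫
      (Scheme.Modules.pullbackComp (f ∣_ U) U.ι).symm).app M ≪≫
    (Scheme.Modules.pullback (f ∣_ U)).mapIso
      (((Scheme.Modules.restrictFunctorIsoPullback U.ι).app M).symm ≪≫ e) ≪≫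
    PreservesCoproduct.iso (Scheme.Modules.pullback (f ∣_ U)) (fun _ : Fin n => Coh.structureModule _) ≪≫
    Sigma.mapIso fun _ => PicLoc.pullbackStructureIso (f ∣_ U)

variable {X G₁ G₂ : Scheme.{u}} {π₁ : G₁ ⟶ X} {π₂ : G₂ ⟶ X} {E₁ E₂ : X.Modules} {e : ℕ}
  {Q₁ : G₁.Modules} {q₁ : (Scheme.Modules.pullback π₁).obj E₁ ⟶ Q₁} (hG₁ : Grass.IsGrass π₁ E₁ e Q₁ q₁)
  {Q₂ : G₂.Modules} {q₂ : (Scheme.Modules.pullback π₂).obj E₂ ⟶ Q₂} (hG₂ : Grass.IsGrass π₂ E₂ e Q₂ q₂)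
  (v : E₁ ⟶ E₂) [Epi v]

include hG₁ hG₂ in
theorem mapOfEpi_classifies :
    Classifies q₁ π₂ ((Scheme.Modules.pullback π₂).map v ≫ q₂) (hG₁.mapOfEpi hG₂ v) := by
  haveI := hG₂.epi
  haveI := Grass.epi_pullback_map π₂ v
  exact hG₁.lift_spec π₂ Q₂ hG₂.rank _ (epi_comp _ _)

include hG₁ hG₂ in
theorem mono_mapOfEpi : Mono (hG₁.mapOfEpi hG₂ v) := by
  refine ⟨fun {T} h h' heq => ?_⟩
  haveI := hG₂.epi
  have hg : h' ≫ π₂ = h ≫ π₂ := by
    rw [← hG₁.mapOfEpi_comp hG₂ v, ← Category.assoc, ← Category.assoc, heq]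
  obtain ⟨_, e₁, h₁⟩ := (mapOfEpi_classifies hG₁ hG₂ v).comp h rfl
  obtain ⟨_, e₂, h₂⟩ := (mapOfEpi_classifies hG₁ hG₂ v).comp h' hg
  rw [quotBC_map] at h₁ h₂
  obtain ⟨i, hi⟩ : ∃ i : (Scheme.Modules.pullback (h ≫ hG₁.mapOfEpi hG₂ v)).obj Q₁ ≅
      (Scheme.Modules.pullback (h' ≫ hG₁.mapOfEpi hG₂ v)).obj Q₁,
      ∀ (p : (h ≫ hG₁.mapOfEpi hG₂ v) ≫ π₁ = h ≫ π₂) (p' : (h' ≫ hG₁.mapOfEpi hG₂ v) ≫ π₁ = h ≫ π₂),
        Grass.quotBC p q₁ ≫ i.hom = Grass.quotBC p' q₁ := by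
    generalize h ≫ hG₁.mapOfEpi hG₂ v = a at heq ⊢
    generalize h' ≫ hG₁.mapOfEpi hG₂ v = b at heq ⊢
    subst heq
    exact ⟨Iso.refl _, fun p p' => Category.comp_id _⟩
  have key : Grass.quotBC (rfl : h ≫ π₂ = h ≫ π₂) q₂ ≫ (e₁.symm ≪≫ i ≪≫ e₂).hom = Grass.quotBC hg q₂ := by
    haveI := Grass.epi_pullback_map (h ≫ π₂) v
    rw [← cancel_epi ((Scheme.Modules.pullback (h ≫ π₂)).map v), ← h₂, ← Category.assoc, ← h₁]
    simp only [Iso.trans_hom, Iso.symm_hom, Category.assoc, Iso.hom_inv_id_assoc]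
    rw [reassoc_of% (hi _ _)]
  exact (hG₂.univ T (h ≫ π₂) _ (isFinLocFreeOfRank_pullback h' hG₂.rank) (Grass.quotBC hg q₂)
    (epi_quotBC q₂ hg)).unique ⟨rfl, _, key⟩ ⟨hg, Iso.refl _, Category.comp_id _⟩

include hG₁ hG₂ in
/-- The morphism of Grassmannians of a surjection of quasi-coherent modules is a closed immersion. -/
theorem isClosedImmersion_mapOfEpi (hE₁ : Coh.IsQCoh E₁) (hE₂ : Coh.IsQCoh E₂) :
    IsClosedImmersion (hG₁.mapOfEpi hG₂ v) := by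
  haveI := hE₁
  haveI := hE₂
  haveI := hG₁.epi
  haveI := hG₂.epi
  haveI : Coh.IsQCoh (kernel v) := Coherent.isQCoh_kernel v
  let φ := (Scheme.Modules.pullback π₁).map (kernel.ι v) ≫ q₁
  obtain ⟨Z, j, hj, hZ⟩ := exists_zero_locus (EGA43.InjFibre.isQCoh_pullback π₁ (kernel v)) hG₁.rank φ
  have hmono := mono_mapOfEpi hG₁ hG₂ v
  have hcl := mapOfEpi_classifies hG₁ hG₂ v
  generalize hG₁.mapOfEpi hG₂ v = c at hmono hcl ⊢
  obtain ⟨hw, a, ha⟩ := id hcl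
  have hkill : ∀ {T : Scheme.{u}} (h : T ⟶ G₁) (g : T ⟶ X) (hg : h ≫ π₁ = g),
      (Scheme.Modules.pullback h).map φ = 0 ↔
        (Scheme.Modules.pullback g).map (kernel.ι v) ≫ Grass.quotBC hg q₁ = 0 := fun h g hg => by
    rw [← quotBC_map, ← cancel_epi ((Scheme.Modules.pullbackComp h π₁).inv.app (kernel v)), comp_zero,
      ← cancel_epi ((Scheme.Modules.pullbackCongr hg).inv.app (kernel v)), comp_zero]
  obtain ⟨z, hz⟩ := (hZ G₂ c).1 (by
    rw [hkill c π₂ hw, ← cancel_mono a.hom, Category.assoc, ha, ← Category.assoc, ← Functor.map_comp,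
      kernel.condition, Functor.map_zero, zero_comp, zero_comp])
  obtain ⟨s, hs⟩ := exists_desc_pullback (j ≫ π₁) v (Grass.quotBC rfl q₁)
    ((hkill j _ rfl).1 ((hZ Z j).2 ⟨𝟙 _, Category.id_comp _⟩))
  haveI : Epi ((Scheme.Modules.pullback (j ≫ π₁)).map v ≫ s) := by rw [hs]; exact epi_quotBC q₁ rfl
  haveI : Epi s := epi_of_epi ((Scheme.Modules.pullback (j ≫ π₁)).map v) s
  obtain ⟨h, ⟨hh, b, hb⟩, -⟩ := hG₂.univ Z (j ≫ π₁) _ (isFinLocFreeOfRank_pullback j hG₁.rank) s inferInstance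
  have hhc : h ≫ c = j := by
    obtain ⟨p, d, hd⟩ := hcl.comp h hh
    rw [quotBC_map] at hd
    refine (hG₁.univ Z (j ≫ π₁) _ (isFinLocFreeOfRank_pullback j hG₁.rank) (Grass.quotBC rfl q₁)
      (epi_quotBC q₁ rfl)).unique ⟨p, d ≪≫ b, ?_⟩ ⟨rfl, Iso.refl _, Category.comp_id _⟩
    rw [Iso.trans_hom, ← Category.assoc, hd, Category.assoc, hb, hs]
  have h1 : z ≫ h = 𝟙 _ := by rw [← cancel_mono c, Category.assoc, hhc, hz, Category.id_comp]
  haveI : Mono j := inferInstance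
  have h2 : h ≫ z = 𝟙 _ := by rw [← cancel_mono j, Category.assoc, hz, hhc, Category.id_comp]
  haveI : IsIso z := ⟨h, h1, h2⟩
  rw [← hz]
  infer_instance

end Groth.Agent.GrassLib
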