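import Groth.Agent.GrassLib.PluckerOver
import Groth.Agent.FlatMorLocalStr.Chart

/-!
# Charts of the Grassmannian over an affine base
-/

set_option autoImplicit false
set_option linter.unusedSectionVars false
set_option backward.isDefEq.respectTransparency.types false

universe u

open CategoryTheory CategoryTheory.Limits AlgebraicGeometry TopologicalSpace MvPolynomial

namespace Groth.Agent.GrassLib

variable {n q : ℕ} {R : Type u} [CommRing R]

theorem card_coord (I : Idx.{u} n q) : Fintype.card (Coord I) = q * (n - q) := by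
  classical
  have h1 : Fintype.card {j : Fin n // j ∉ Set.range I.down.1} = n - q := by
    rw [Fintype.card_subtype_compl, show Fintype.card {j : Fin n // j ∈ Set.range I.down.1} = q from
      (Set.card_range_of_injective I.down.2).trans (Fintype.card_fin q), Fintype.card_fin]
  rw [Fintype.card_prod, h1, Fintype.card_fin, Nat.mul_comm]

variable (n q R) in
/-- The charts of `GrOver` as opens. -/
theorem exists_affine_cover : ∃ U : {I : Fin q → Fin n // Function.Injective I} → (GrOver n q R).left.Opens,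
    ⨆ I, U I = ⊤ ∧ ∀ I, Nonempty (Over.mk ((U I).ι ≫ (GrOver n q R).hom) ≅
      Over.mk (𝔸(ULift.{u} (Fin (q * (n - q))); Spec (CommRingCat.of R)) ↘ Spec (CommRingCat.of R))) := by
  let t := specULiftZIsTerminal.from (Spec (CommRingCat.of R))
  let p : (GrOver n q R).left ⟶ Gr.{u} n q := pullback.fst _ _
  let U : {I : Fin q → Fin n // Function.Injective I} → (GrOver n q R).left.Opens := fun I =>
    p ⁻¹ᵁ (inc (⟨I⟩ : Idx.{u} n q)).opensRange
  refine ⟨U, top_le_iff.1 fun x _ => ?_, fun I => ?_⟩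
  · obtain ⟨⟨I⟩, y, hy⟩ := exists_mem_range_inc (p x)
    exact Opens.mem_iSup.2 ⟨I, y, hy⟩
  let J : Idx.{u} n q := ⟨I⟩
  let d := q * (n - q)
  let σ : ULift.{u} (Fin d) ≃ Coord J := Equiv.ulift.trans (Fintype.equivFinOfCardEq (card_coord J)).symm
  let a : Spec (CommRingCat.of (MvPolynomial (ULift.{u} (Fin d)) (ULift.{u} ℤ))) ≅ chart J :=
    { hom := Spec.map (CommRingCat.ofHom (MvPolynomial.renameEquiv (ULift.{u} ℤ) σ).symm.toRingEquiv.toRingHom)
      inv := Spec.map (CommRingCat.ofHom (MvPolynomial.renameEquiv (ULift.{u} ℤ) σ).toRingEquiv.toRingHom)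
      hom_inv_id := by
        rw [← Spec.map_comp, ← CommRingCat.ofHom_comp, ← Spec.map_id]
        congr 1; ext1; exact RingHom.ext fun x => (MvPolynomial.renameEquiv (ULift.{u} ℤ) σ).symm_apply_apply x
      inv_hom_id := by
        rw [← Spec.map_comp, ← CommRingCat.ofHom_comp, ← Spec.map_id]
        congr 1; ext1; exact RingHom.ext fun x => (MvPolynomial.renameEquiv (ULift.{u} ℤ) σ).apply_symm_apply x }
  let A := 𝔸(ULift.{u} (Fin d); Spec (CommRingCat.of R))
  let g : A ⟶ (GrOver n q R).left := pullback.lift (AffineSpace.toSpecMvPoly _ _ ≫ a.hom ≫ inc J)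
    (A ↘ Spec (CommRingCat.of R)) (specULiftZIsTerminal.hom_ext _ _)
  have hg1 : g ≫ p = AffineSpace.toSpecMvPoly _ _ ≫ a.hom ≫ inc J := pullback.lift_fst _ _ _
  have hg2 : g ≫ (GrOver n q R).hom = A ↘ Spec (CommRingCat.of R) := pullback.lift_snd _ _ _
  have hr : Set.range ((U I).ι ≫ p) ⊆ Set.range (inc J) := by
    rintro _ ⟨y, rfl⟩
    exact y.2
  haveI : IsIso a.hom := a.isIso_hom
  let l := IsOpenImmersion.lift (inc J) ((U I).ι ≫ p) hr
  have hl : l ≫ inc J = (U I).ι ≫ p := IsOpenImmersion.lift_fac _ _ _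
  let w : (U I : Scheme.{u}) ⟶ A := pullback.lift ((U I).ι ≫ (GrOver n q R).hom) (l ≫ a.inv) (terminal.hom_ext _ _)
  have hw1 : w ≫ (A ↘ Spec (CommRingCat.of R)) = (U I).ι ≫ (GrOver n q R).hom := pullback.lift_fst _ _ _
  have hw2 : w ≫ AffineSpace.toSpecMvPoly _ _ = l ≫ a.inv := pullback.lift_snd _ _ _
  have hgr : Set.range g ⊆ Set.range (U I).ι := by
    rintro _ ⟨y, rfl⟩
    rw [Scheme.Opens.range_ι]
    exact ⟨(AffineSpace.toSpecMvPoly _ _ ≫ a.hom) y, (congrArg (fun f : A ⟶ Gr.{u} n q => f y) hg1).symm⟩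
  let g' := IsOpenImmersion.lift (U I).ι g hgr
  have hg' : g' ≫ (U I).ι = g := IsOpenImmersion.lift_fac _ _ _
  have h1 : w ≫ g' = 𝟙 _ := by
    rw [← cancel_mono (U I).ι, Category.assoc, hg', Category.id_comp]
    refine pullback.hom_ext ?_ ?_
    · show (w ≫ g) ≫ p = (U I).ι ≫ p
      rw [Category.assoc, hg1, reassoc_of% hw2, a.inv_hom_id_assoc, hl]
    · show (w ≫ g) ≫ (GrOver n q R).hom = (U I).ι ≫ (GrOver n q R).hom
      rw [Category.assoc, hg2, hw1]
  have h2 : g' ≫ w = 𝟙 _ := by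
    refine pullback.hom_ext ?_ ?_
    · show (g' ≫ w) ≫ (A ↘ Spec (CommRingCat.of R)) = 𝟙 _ ≫ (A ↘ Spec (CommRingCat.of R))
      rw [Category.assoc, hw1, ← Category.assoc, hg', hg2, Category.id_comp]
    · show (g' ≫ w) ≫ AffineSpace.toSpecMvPoly _ _ = 𝟙 _ ≫ AffineSpace.toSpecMvPoly _ _
      rw [Category.assoc, hw2, ← cancel_mono a.hom, ← cancel_mono (inc J)]
      simp only [Category.assoc, Category.id_comp, a.inv_hom_id_assoc, hl]
      rw [← Category.assoc, hg', hg1]
  exact ⟨Over.isoMk ⟨w, g', h1, h2⟩ hw1⟩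

theorem smoothOfRelativeDimension_affineSpace (d : ℕ) (R : Type u) [CommRing R] :
    SmoothOfRelativeDimension d (𝔸(ULift.{u} (Fin d); Spec (CommRingCat.of R)) ↘ Spec (CommRingCat.of R)) := by
  rw [← MorphismProperty.cancel_left_of_respectsIso (@SmoothOfRelativeDimension d)
    (AffineSpace.SpecIso (ULift.{u} (Fin d)) (CommRingCat.of R)).inv, AffineSpace.SpecIso_inv_over,
    HasRingHomProperty.Spec_iff (P := @SmoothOfRelativeDimension d)]
  refine RingHom.locally_of (RingHom.isStandardSmoothOfRelativeDimension_respectsIso (n := d)) _ ?_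
  exact (RingHom.isStandardSmoothOfRelativeDimension_algebraMap d).2
    (haveI := FlatMorLocalStr.isStandardSmoothOfRelativeDimension_mvPolynomial R d
     .of_algEquiv d (MvPolynomial.renameEquiv R Equiv.ulift.{u}.symm))

end Groth.Agent.GrassLib
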