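import Groth.Agent.GrassLib.Change

/-!
# The scheme of rank `q` quotients of `O^n`
-/

set_option autoImplicit false
set_option linter.unusedSectionVars false
set_option backward.isDefEq.respectTransparency.types false
set_option maxHeartbeats 1000000

universe u

open CategoryTheory CategoryTheory.Limits AlgebraicGeometry Opposite TopologicalSpace
open Groth.Agent.Coherent Groth.Agent.PicLib

namespace Groth.Agent.GrassLib

variable {n q : ℕ} {T T' W : Scheme.{u}}

theorem isSheaf_functor : Presheaf.IsSheaf Scheme.zariskiTopology.{u} (functor.{u} n q) := by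
  rw [isSheaf_iff_isSheaf_of_type]
  intro T R hR x hx
  obtain ⟨(𝒱 : Scheme.OpenCover.{u} T), hle⟩ := Scheme.exists_cover_of_mem_grothendieckTopology hR
  have hmem : ∀ i, R (𝒱.f i) := fun i => hle _ _ (Presieve.ofArrows.mk i)
  have hcov : ∀ y : T, ∃ i, y ∈ (𝒱.f i).opensRange := fun y => ⟨𝒱.idx y, 𝒱.covers y⟩
  obtain ⟨G, hG⟩ := Elt.exists_glue (fun i => 𝒱.f i) hcov (fun i => x (𝒱.f i) (hmem i)) fun i l =>
    hx (pullback.fst (𝒱.f i) (𝒱.f l)) (pullback.snd _ _) (hmem i) (hmem l) pullback.condition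
  refine ⟨G, fun W f hf => ?_, fun G' hG' => ?_⟩
  · refine Elt.ext_cover (ι := 𝒱.I₀) (fun i => pullback.fst f (𝒱.f i)) (fun y => ?_) fun i => ?_
    · obtain ⟨i, z, hz⟩ := hcov (f y)
      obtain ⟨w, hw, -⟩ := Scheme.Pullback.exists_preimage_pullback y z hz.symm
      exact ⟨i, w, hw⟩
    · show (Elt.pull f G).pull _ = _
      rw [← Elt.pull_comp, pullback.condition, Elt.pull_comp, hG]
      exact (hx (pullback.fst f (𝒱.f i)) (pullback.snd _ _) hf (hmem i) pullback.condition).symm
  · refine Elt.ext_cover (ι := 𝒱.I₀) (fun i => 𝒱.f i) hcov fun i => ?_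
    rw [hG]
    exact hG' _ (hmem i)

/-! ## Coordinates in a global frame -/

namespace Datum

variable (D : Datum n q T) {I : Fin q → Fin n}

/-- Relations in terms of coordinates. -/
theorem mem_ker_iff {U : T.Opens} (h : IsFrame D.L D.t U I) {V : T.Opens} (hV : V ≤ U) (c : Fin n → Γ(T, V)) :
    c ∈ D.ker V ↔ ∀ k, ∑ j, c j * h.mat hV j k = 0 := by
  have e : ∑ j, c j • resM D.L (le_top : V ≤ ⊤) (D.t j) =
      ∑ k, (∑ j, c j * h.mat hV j k) • resM D.L (le_top : V ≤ ⊤) (D.t (I k)) := by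
    conv_lhs => enter [2, j]; rw [← h.mat_spec hV j, Finset.smul_sum]
    rw [Finset.sum_comm]
    exact Finset.sum_congr rfl fun k _ => by simp only [smul_smul, Finset.sum_smul]
  show _ = _ ↔ _
  rw [e]
  exact ⟨fun h' => congrFun (h.eq_zero hV h'), fun h' => by simp [h']⟩

theorem ker_eq_of_mat {D' : Datum n q T} (h : IsFrame D.L D.t ⊤ I) (h' : IsFrame D'.L D'.t ⊤ I)
    (e : ∀ j, h.mat le_rfl j = h'.mat le_rfl j) : D.ker = D'.ker := by
  funext V
  ext c
  rw [D.mem_ker_iff h le_top, D'.mem_ker_iff h' le_top]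
  have e' : ∀ j, h.mat (le_top : V ≤ ⊤) j = h'.mat (le_top : V ≤ ⊤) j := fun j => by
    rw [h.mat_res le_rfl (le_top : V ≤ ⊤) j, h'.mat_res le_rfl (le_top : V ≤ ⊤) j, e]
  simp only [e']

theorem frame_of_iso {D' : Datum n q T} (e : D.L ≅ D'.L) (he : ∀ j, e.hom.app ⊤ (D.t j) = D'.t j) {U : T.Opens}
    (h : IsFrame D.L D.t U I) : IsFrame D'.L D'.t U I := by
  refine IsFrame.of_bij fun V hV => ?_
  convert (ConcreteCategory.bijective_of_isIso (C := AddCommGrpCat) (e.hom.app V)).comp (h.bij hV) using 1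
  funext c
  simp only [Function.comp_apply, map_sum, Scheme.Modules.Hom.app_smul, app_resM, he]

theorem frameLocus_congr {D' : Datum n q T} (e : D.ker = D'.ker) : D.frameLocus I = D'.frameLocus I := by
  obtain ⟨i, hi⟩ := D.exists_iso D' e
  refine le_antisymm (D'.le_frameLocus (D.frame_of_iso i hi (D.isFrame_frameLocus I))) ?_
  refine D.le_frameLocus (D'.frame_of_iso i.symm (fun j => ?_) (D'.isFrame_frameLocus I))
  rw [← hi j]
  exact congrArg (fun g : D.L ⟶ D.L => g.app ⊤ (D.t j)) i.hom_inv_id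

theorem mat_congr {D' : Datum n q T} (e : D.ker = D'.ker) {U : T.Opens} (h : IsFrame D.L D.t U I)
    (h' : IsFrame D'.L D'.t U I) {V : T.Opens} (hV : V ≤ U) (j : Fin n) : h.mat hV j = h'.mat hV j := by
  classical
  have hc : (fun m => (if m = j then (1 : Γ(T, V)) else 0) - ∑ k, if I k = m then h.mat hV j k else 0) ∈ D.ker V := by
    show _ = _
    simp only [sub_smul, Finset.sum_sub_distrib, Finset.sum_smul, ite_smul, zero_smul, one_smul]
    rw [Finset.sum_comm]
    simp [h.mat_spec hV j]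
  rw [e] at hc
  refine (h'.mat_eq hV j ?_).symm
  have h1 : _ = _ := hc
  simp only [sub_smul, Finset.sum_sub_distrib, Finset.sum_smul, ite_smul, zero_smul, one_smul] at h1
  rw [Finset.sum_comm] at h1
  simp at h1
  exact (sub_eq_zero.1 h1).symm

end Datum

/-! ## Charts -/

variable (n q) in
/-- The indices of the charts. -/
abbrev Idx : Type u := ULift.{u} {I : Fin q → Fin n // Function.Injective I}

/-- The free coordinates of a chart. -/
abbrev Coord (I : Idx.{u} n q) : Type := {j : Fin n // j ∉ Set.range I.down.1} × Fin q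

/-- The chart. -/
noncomputable abbrev chart (I : Idx.{u} n q) : Scheme.{u} :=
  Spec (CommRingCat.of (MvPolynomial (Coord I) (ULift.{u} ℤ)))

/-- The function attached to an element of the chart ring. -/
noncomputable def chartVal {I : Idx.{u} n q} (z : T ⟶ chart I) :
    MvPolynomial (Coord I) (ULift.{u} ℤ) →+* Γ(T, ⊤) :=
  ((Scheme.ΓSpecIso _).inv ≫ z.appTop).hom

theorem exists_chart_hom {I : Idx.{u} n q} (a : Coord I → Γ(T, ⊤)) :
    ∃ z : T ⟶ chart I, ∀ v, chartVal z (MvPolynomial.X v) = a v := by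
  refine ⟨T.toSpecΓ ≫ Spec.map (CommRingCat.ofHom (MvPolynomial.eval₂Hom
    ((Int.castRingHom Γ(T, ⊤)).comp (ULift.ringEquiv (R := ℤ)).toRingHom) a)), fun v => ?_⟩
  show ((Scheme.ΓSpecIso (CommRingCat.of (MvPolynomial (Coord I) (ULift.{u} ℤ)))).inv ≫
    (T.toSpecΓ ≫ Spec.map (CommRingCat.ofHom (MvPolynomial.eval₂Hom
      ((Int.castRingHom Γ(T, ⊤)).comp (ULift.ringEquiv (R := ℤ)).toRingHom) a))).appTop) (MvPolynomial.X v) = a v
  rw [Scheme.Hom.comp_appTop, ← Category.assoc, ← Scheme.ΓSpecIso_inv_naturality, Category.assoc,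
    Scheme.toSpecΓ_appTop, Iso.inv_hom_id, Category.comp_id]
  exact MvPolynomial.eval₂_X _ _ v

theorem chart_hom_ext {I : Idx.{u} n q} {z z' : T ⟶ chart I}
    (h : ∀ v, chartVal z (MvPolynomial.X v) = chartVal z' (MvPolynomial.X v)) : z = z' := by
  refine ext_to_Spec ?_
  refine CommRingCat.hom_ext (MvPolynomial.ringHom_ext (fun r => ?_) h)
  obtain ⟨r⟩ := r
  have e : (MvPolynomial.C (ULift.up.{u} r) : MvPolynomial (Coord I) (ULift.{u} ℤ)) = (r : MvPolynomial (Coord I) (ULift.{u} ℤ)) := by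
    rw [← map_intCast (MvPolynomial.C : ULift.{u} ℤ →+* MvPolynomial (Coord I) (ULift.{u} ℤ)) r]
    rfl
  rw [e, map_intCast, map_intCast]

/-- The universal matrix on a chart, on a scheme over it. -/
noncomputable def cmat {I : Idx.{u} n q} (a : Coord I → Γ(T, ⊤)) (j : Fin n) (k : Fin q) : Γ(T, ⊤) :=
  open Classical in if h : j ∈ Set.range I.down.1 then (if I.down.1 k = j then 1 else 0) else a (⟨j, h⟩, k)

theorem ofMat_frame' {I : Idx.{u} n q} (a : Coord I → Γ(T, ⊤)) :
    IsFrame (freeMod T (ULift.{u} (Fin q))) (fun j => ∑ k, cmat a j k • freeBasisVec (X := T) (ULift.up.{u} k) ⊤)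
      ⊤ I.down.1 := by
  classical
  refine IsFrame.of_bij fun V _ => ?_
  have hI : ∀ i, (∑ k, cmat a (I.down.1 i) k • freeBasisVec (X := T) (ULift.up.{u} k) ⊤) = freeBasisVec (X := T) (ULift.up.{u} i) ⊤ := fun i => by
    rw [Finset.sum_eq_single i (fun k _ hk => ?_) (fun h => absurd (Finset.mem_univ i) h)]
    · simp [cmat]
    · simp [cmat, I.down.2.eq_iff, hk]
  simp only [hI]
  convert ((freeSectionsEquiv (X := T) (I := ULift.{u} (Fin q)) V).symm.bijective).comp
    ((Equiv.arrowCongr Equiv.ulift (Equiv.refl Γ(T, V))).symm.bijective) using 1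
  funext c
  refine ((freeSectionsEquiv (X := T) (I := ULift.{u} (Fin q)) V).eq_symm_apply).2 (funext fun l => ?_)
  rw [map_sum, Finset.sum_apply, Finset.sum_eq_single l.down]
  · rw [map_smul, Pi.smul_apply, show resM _ (le_top : V ≤ ⊤) (freeBasisVec (X := T) (ULift.up.{u} l.down) ⊤) =
      freeBasisVec (X := T) l V from resM_unitVal _ _,
      show freeSectionsEquiv V (freeBasisVec l V) l = 1 from (freeCoord_basisVec V _ _).trans (if_pos rfl)]
    exact mul_one _
  · intro i _ hi
    rw [map_smul, Pi.smul_apply, show resM _ (le_top : V ≤ ⊤) (freeBasisVec (X := T) (ULift.up.{u} i) ⊤) =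
      freeBasisVec (X := T) ⟨i⟩ V from resM_unitVal _ _,
      show freeSectionsEquiv V (freeBasisVec (X := T) ⟨i⟩ V) l = 0 from
        (freeCoord_basisVec V _ _).trans (if_neg fun h => hi (congrArg ULift.down h))]
    exact mul_zero _
  · exact fun h => absurd (Finset.mem_univ _) h

/-- The quotient given by a matrix. -/
noncomputable def ofMat {I : Idx.{u} n q} (a : Coord I → Γ(T, ⊤)) : Datum n q T where
  L := freeMod T (ULift.{u} (Fin q))
  t j := ∑ k, cmat a j k • freeBasisVec (X := T) (ULift.up.{u} k) ⊤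
  frame x := ⟨⊤, I.down.1, trivial, ofMat_frame' a⟩

theorem ofMat_frame {I : Idx.{u} n q} (a : Coord I → Γ(T, ⊤)) :
    IsFrame (ofMat a).L (ofMat a).t ⊤ I.down.1 :=
  ofMat_frame' a

theorem mat_ofMat {I : Idx.{u} n q} (a : Coord I → Γ(T, ⊤)) (j : Fin n) :
    (ofMat_frame a).mat (le_refl ⊤) j = cmat a j := by
  refine IsFrame.mat_eq _ _ j ?_
  have hI : ∀ i, (ofMat a).t (I.down.1 i) = freeBasisVec (X := T) (ULift.up.{u} i) ⊤ := fun i => by
    show ∑ k, cmat a (I.down.1 i) k • _ = _
    rw [Finset.sum_eq_single i (fun k _ hk => ?_) (fun h => absurd (Finset.mem_univ i) h)]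
    · simp [cmat]; exact one_smul _ _
    · simp [cmat, I.down.2.eq_iff, hk]; exact zero_smul _ _
  simp only [hI, resM_self]
  rfl

/-- The class on a scheme over the chart. -/
noncomputable def chartElt {I : Idx.{u} n q} (z : T ⟶ chart I) : Elt n q T :=
  Elt.mk (ofMat fun v => chartVal z (MvPolynomial.X v))

theorem chartVal_comp {I : Idx.{u} n q} (g : T' ⟶ T) (z : T ⟶ chart I) (p : MvPolynomial (Coord I) (ULift.{u} ℤ)) :
    chartVal (g ≫ z) p = g.appTop (chartVal z p) := by
  show ((Scheme.ΓSpecIso _).inv ≫ (g ≫ z).appTop) p = _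
  rw [Scheme.Hom.comp_appTop]
  rfl

theorem chartElt_comp {I : Idx.{u} n q} (g : T' ⟶ T) (z : T ⟶ chart I) :
    chartElt (g ≫ z) = (chartElt z).pull g := by
  rw [chartElt, chartElt, Elt.pull_mk, Elt.mk_eq_mk]
  set D := ofMat fun v => chartVal z (MvPolynomial.X v)
  refine Datum.ker_eq_of_mat _ (ofMat_frame _) (D.pull_frame g (ofMat_frame _)) fun j => ?_
  rw [mat_ofMat]
  refine Eq.trans ?_ (D.mat_pull g (ofMat_frame _) (le_refl _) j).symm
  rw [mat_ofMat]
  funext k
  simp only [cmat, chartVal_comp]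
  split_ifs
  · exact (map_one _).symm
  · exact (map_zero _).symm
  · rfl

theorem mem_frameLocus_chartElt {I : Idx.{u} n q} (z : T ⟶ chart I) :
    (chartElt z).datum.frameLocus I.down.1 = ⊤ := by
  rw [chartElt, Datum.frameLocus_congr _ (Elt.mk_eq_mk.1 (Elt.mk (ofMat fun v => chartVal z (MvPolynomial.X v))).mk_datum)]
  exact top_le_iff.1 (Datum.le_frameLocus _ (ofMat_frame _))

theorem exists_chart_of_frame {I : Idx.{u} n q} (D : Datum n q T) (h : IsFrame D.L D.t ⊤ I.down.1) :
    ∃ z : T ⟶ chart I, chartElt z = Elt.mk D := by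
  classical
  obtain ⟨z, hz⟩ := exists_chart_hom (I := I) fun v => h.mat le_rfl v.1.1 v.2
  refine ⟨z, Elt.mk_eq_mk.2 (Datum.ker_eq_of_mat _ (ofMat_frame _) h fun j => ?_)⟩
  rw [mat_ofMat]
  funext k
  simp only [cmat, hz]
  split_ifs with h1 h2
  · subst h2
    rw [h.mat_frame, Pi.single_eq_same]
  · obtain ⟨i, rfl⟩ := h1
    rw [h.mat_frame, Pi.single_eq_of_ne fun e => h2 (congrArg _ e)]
  · rfl

theorem chartElt_injective {I : Idx.{u} n q} {z z' : T ⟶ chart I} (h : chartElt z = chartElt z') : z = z' := by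
  refine chart_hom_ext fun v => ?_
  have h1 := congrFun (Datum.mat_congr _ (Elt.mk_eq_mk.1 h) (ofMat_frame _) (ofMat_frame _) le_rfl v.1.1) v.2
  rw [mat_ofMat, mat_ofMat] at h1
  simpa [cmat, v.1.2] using h1

/-- The chart map. -/
noncomputable def chartMap (I : Idx.{u} n q) : yoneda.obj (chart I) ⟶ functor.{u} n q where
  app T := TypeCat.ofHom fun z => chartElt z
  naturality _ _ g := ConcreteCategory.hom_ext _ _ fun z => chartElt_comp g.unop z

theorem isOpenImmersion_chartMap (I : Idx.{u} n q) : IsOpenImmersion.presheaf (chartMap I) := by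
  refine MorphismProperty.relative.of_exists fun T g => ?_
  let E : Elt n q T := g.app (op T) (𝟙 T)
  have hg : ∀ (W : Scheme.{u}) (a : W ⟶ T), g.app (op W) a = E.pull a := by
    intro W a
    have h1 : g.app (op W) ((yoneda.obj T).map a.op (𝟙 T)) = (functor n q).map a.op (g.app (op T) (𝟙 T)) :=
      ConcreteCategory.congr_hom (g.naturality a.op) (𝟙 T)
    have h2 : (yoneda.obj T).map a.op (𝟙 T) = a := Category.comp_id a
    rw [h2] at h1
    exact h1
  let V : T.Opens := E.datum.frameLocus I.down.1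
  have hfr : IsFrame (E.datum.pull V.ι).L (E.datum.pull V.ι).t ⊤ I.down.1 := by
    have h1 := E.datum.pull_frame V.ι (E.datum.isFrame_frameLocus I.down.1)
    exact h1.mono (le_of_eq V.ι_preimage_self.symm)
  obtain ⟨z₀, hz₀⟩ := exists_chart_of_frame _ hfr
  refine ⟨V, yoneda.map z₀, V.ι, ?_, inferInstance⟩
  refine IsPullback.of_forall_isPullback_app fun W => ?_
  rw [Limits.Types.isPullback_iff]
  refine ⟨?_, fun a b h => (cancel_mono V.ι).1 h.2, fun z a h => ?_⟩
  · refine ConcreteCategory.hom_ext _ _ fun a => ?_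
    show chartElt ((a : unop W ⟶ (V : Scheme.{u})) ≫ z₀) = g.app W ((a : unop W ⟶ (V : Scheme.{u})) ≫ V.ι)
    erw [hg]
    rw [chartElt_comp, hz₀, Elt.pull_comp]
    rfl
  · let z' : unop W ⟶ chart I := z
    let a' : unop W ⟶ T := a
    have hh : chartElt z' = E.pull a' := h.trans (hg _ a')
    have htop : IsFrame (E.datum.pull a').L (E.datum.pull a').t ⊤ I.down.1 := by
      obtain ⟨i, hi⟩ := Datum.exists_iso _ _ (Elt.mk_eq_mk.1 hh)
      exact Datum.frame_of_iso _ i hi (ofMat_frame _)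
    have hr : Set.range a' ⊆ Set.range V.ι := by
      rintro _ ⟨w, rfl⟩
      rw [Scheme.Opens.range_ι]
      exact E.datum.mem_frameLocus_of_pull (h := a') (y := w) (Set.mem_univ w) htop
    refine ⟨IsOpenImmersion.lift V.ι a' hr, ?_, IsOpenImmersion.lift_fac _ _ _⟩
    show IsOpenImmersion.lift V.ι a' hr ≫ z₀ = z'
    refine chartElt_injective ?_
    rw [chartElt_comp, hz₀, hh]
    show (E.pull V.ι).pull _ = _
    rw [← Elt.pull_comp, IsOpenImmersion.lift_fac]

theorem isLocallySurjective_chartMap :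
    Presheaf.IsLocallySurjective Scheme.zariskiTopology.{u} (Sigma.desc (chartMap.{u} (n := n) (q := q))) := by
  refine ⟨fun {T} s => ?_⟩
  let E : Elt n q T := s
  let U : Idx.{u} n q → T.Opens := fun I => E.datum.frameLocus I.down.1
  have hU : TopologicalSpace.IsOpenCover U := top_le_iff.1 fun x _ => by
    obtain ⟨V, I, hx, hI⟩ := E.datum.frame x
    exact Opens.mem_iSup.2 ⟨⟨⟨I, hI.injective hx⟩⟩, E.datum.le_frameLocus hI hx⟩
  let 𝒱 : (unop (op T)).OpenCover := T.openCoverOfIsOpenCover U hU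
  refine Scheme.zariskiTopology.superset_covering ?_ 𝒱.mem_grothendieckTopology
  rintro W a ⟨_, b, _, ⟨I⟩, rfl⟩
  obtain ⟨z, hz⟩ := exists_chart_of_frame (I := I) (E.datum.pull (b ≫ 𝒱.f I))
    ((E.datum.pull_frame (b ≫ 𝒱.f I) (E.datum.isFrame_frameLocus I.down.1)).mono fun w _ => (b w).2)
  refine ⟨(Limits.Sigma.ι (fun I => yoneda.obj (chart I)) I).app (op W) z, ?_⟩
  have e := ConcreteCategory.congr_hom (congr_app (Limits.Sigma.ι_desc (chartMap.{u} (n := n) (q := q)) I) (op W)) z
  refine e.trans ?_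
  show chartElt z = E.pull (b ≫ 𝒱.f I)
  exact hz

variable (n q) in
/-- The scheme of rank `q` quotients of `O^n`. -/
noncomputable def Gr : Scheme.{u} :=
  (Scheme.LocalRepresentability.glueData (F := ⟨functor.{u} n q, isSheaf_functor⟩)
    (f := chartMap.{u} (n := n) (q := q)) fun I => isOpenImmersion_chartMap I).glued

/-- The Grassmannian represents the functor. -/
noncomputable def representableBy : (functor.{u} n q).RepresentableBy (Gr.{u} n q) :=
  haveI := isLocallySurjective_chartMap.{u} (n := n) (q := q)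
  Scheme.LocalRepresentability.representableBy (F := ⟨functor.{u} n q, isSheaf_functor⟩)
    (f := chartMap.{u} (n := n) (q := q)) fun I => isOpenImmersion_chartMap I

variable (n q) in
/-- The universal quotient. -/
noncomputable def univ : Datum n q (Gr.{u} n q) :=
  Elt.datum (representableBy.homEquiv (𝟙 (Gr.{u} n q)) : Elt n q (Gr.{u} n q))

theorem homEquiv_eq (g : T ⟶ Gr.{u} n q) : (representableBy.homEquiv g : Elt n q T) = Elt.mk ((univ n q).pull g) := by
  have h := representableBy.homEquiv_comp g (𝟙 (Gr.{u} n q))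
  rw [Category.comp_id] at h
  exact h

/-- Every quotient comes from a unique morphism to the Grassmannian. -/
theorem existsUnique_hom (D : Datum n q T) : ∃! g : T ⟶ Gr.{u} n q, ((univ n q).pull g).ker = D.ker := by
  refine ⟨representableBy.homEquiv.symm (Elt.mk D), Elt.mk_eq_mk.1 ?_, fun g hg => ?_⟩
  · rw [← homEquiv_eq]
    exact Equiv.apply_symm_apply _ _
  · exact representableBy.homEquiv.injective (((homEquiv_eq g).trans (Elt.mk_eq_mk.2 hg)).trans
      (Equiv.apply_symm_apply _ _).symm)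

end Groth.Agent.GrassLib
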