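import Groth.Agent.GrassLib.QuotFun
import Groth.Agent.GrassLib.Rep
import Groth.Agent.Misc15.OverGlue
import Groth.Agent.Coherent.FinitePres
import Groth.Agent.ZClosLib.Descent

/-!
# Existence of Grassmannians of modules of finite type
-/

set_option autoImplicit false
set_option linter.unusedSectionVars false
set_option backward.isDefEq.respectTransparency.types false
set_option maxHeartbeats 1000000

universe u

open CategoryTheory CategoryTheory.Limits AlgebraicGeometry Opposite TopologicalSpace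
open Groth.Agent.Coherent Groth.Agent.PicLib

namespace Groth.Agent.GrassLib

variable {X G T : Scheme.{u}} {n e : ℕ}

/-- The map from the inverse image of a free module given by sections. -/
noncomputable def qOf (g : T ⟶ X) {L : T.Modules} (t : Fin n → Γ(L, ⊤)) :
    (Scheme.Modules.pullback g).obj (freeMod X (ULift.{u} (Fin n))) ⟶ L :=
  ((Scheme.Modules.pullbackPushforwardAdjunction g).homEquiv _ _).symm
    (freeDesc fun j => unitDesc ((Scheme.Modules.pushforward g).obj L) (t j.down : Γ((Scheme.Modules.pushforward g).obj L, ⊤)))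

theorem qOf_app (g : T ⟶ X) {L : T.Modules} (t : Fin n → Γ(L, ⊤)) (j : ULift.{u} (Fin n)) :
    (qOf g t).app (g ⁻¹ᵁ ⊤) (pullSec g (unitVal (freeInj j) ⊤)) = t j.down := by
  refine (homEquiv_symm_app_pullSec g _ _).trans ?_
  show unitVal (freeInj j ≫ freeDesc _) ⊤ = _
  rw [freeInj_freeDesc]
  exact (unitVal_unitDesc _ _ _).trans (resM_self ((Scheme.Modules.pushforward g).obj L) le_top _)

theorem hom_ext_free (g : T ⟶ X) {L : T.Modules} {I : Type u}
    (a b : (Scheme.Modules.pullback g).obj (freeMod X I) ⟶ L)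
    (h : ∀ i, a.app (g ⁻¹ᵁ ⊤) (pullSec g (unitVal (freeInj i) ⊤)) = b.app (g ⁻¹ᵁ ⊤) (pullSec g (unitVal (freeInj i) ⊤))) :
    a = b := by
  rw [← sub_eq_zero]
  refine H8Coh.hom_eq_zero_of_pullSec g _ fun i => ?_
  rw [Scheme.Modules.Hom.sub_app]
  exact sub_eq_zero.2 (h i)

theorem epi_qOf (g : T ⟶ X) {q : ℕ} (D : Datum n q T) : Epi (qOf g D.t) := by
  let β : freeMod T (ULift.{u} (Fin n)) ⟶ (Scheme.Modules.pullback g).obj (freeMod X (ULift.{u} (Fin n))) :=
    freeDesc fun j => unitDesc _ (pullSec g (unitVal (freeInj j) ⊤))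
  have hβ : β ≫ qOf g D.t = D.desc := by
    refine freeMod_hom_ext fun j => Existence.unit_hom_ext ?_
    show unitVal (freeInj j ≫ β ≫ qOf g D.t) ⊤ = unitVal (freeInj j ≫ D.desc) ⊤
    rw [Datum.desc, freeInj_freeDesc, unitVal_unitDesc, ← Category.assoc, freeInj_freeDesc]
    show (qOf g D.t).app ⊤ (unitVal (unitDesc _ _) ⊤) = _
    rw [unitVal_unitDesc]
    erw [resM_self, qOf_app, resM_self]
  haveI := D.epi_desc
  haveI : Epi (β ≫ qOf g D.t) := by rw [hβ]; infer_instance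
  exact epi_of_epi β _

/-- The values of a quotient of a free module. -/
noncomputable def valOf (g : T ⟶ X) {L : T.Modules}
    (s : (Scheme.Modules.pullback g).obj (freeMod X (ULift.{u} (Fin n))) ⟶ L) (j : Fin n) : Γ(L, ⊤) :=
  s.app (g ⁻¹ᵁ ⊤) (pullSec g (unitVal (freeInj (ULift.up.{u} j)) ⊤))

theorem epi_valOf (g : T ⟶ X) {L : T.Modules}
    (s : (Scheme.Modules.pullback g).obj (freeMod X (ULift.{u} (Fin n))) ⟶ L) [Epi s] :
    Epi (freeDesc fun j : ULift.{u} (Fin n) => unitDesc L (valOf g s j.down)) := by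
  let β : (Scheme.Modules.pullback g).obj (freeMod X (ULift.{u} (Fin n))) ⟶ freeMod T (ULift.{u} (Fin n)) :=
    qOf g fun j => unitVal (freeInj (ULift.up.{u} j)) ⊤
  have : β ≫ (freeDesc fun j : ULift.{u} (Fin n) => unitDesc L (valOf g s j.down)) = s := by
    refine hom_ext_free g _ _ fun j => ?_
    show (freeDesc _).app _ (β.app _ _) = _
    rw [qOf_app]
    show unitVal (freeInj j ≫ freeDesc _) ⊤ = _
    rw [freeInj_freeDesc]
    exact (unitVal_unitDesc _ _ _).trans (resM_self _ _ _)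
  haveI : Epi (β ≫ (freeDesc fun j : ULift.{u} (Fin n) => unitDesc L (valOf g s j.down))) := this.symm ▸ inferInstance
  exact epi_of_epi β _

/-- Base change of a quotient on pulled back sections. -/
theorem quotBC_app_pullSec {E : X.Modules} {Q : G.Modules} {π : G ⟶ X} (q : (Scheme.Modules.pullback π).obj E ⟶ Q)
    {h : T ⟶ G} {g : T ⟶ X} (hg : h ≫ π = g) (x : Γ(E, ⊤)) :
    (Grass.quotBC hg q).app (g ⁻¹ᵁ ⊤) (pullSec g x) = pullSec h (q.app (π ⁻¹ᵁ ⊤) (pullSec π x)) := by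
  subst hg
  have h0 : Grass.quotBC (rfl : h ≫ π = h ≫ π) q =
      (Scheme.Modules.pullbackComp h π).inv.app E ≫ (Scheme.Modules.pullback h).map q := by
    simp [Grass.quotBC, pullbackCongr_inv_app]
  rw [h0]
  refine Eq.trans ?_ (RelVALib.map_app_pullSec h q (π ⁻¹ᵁ ⊤) (pullSec π x))
  exact congrArg (((Scheme.Modules.pullback h).map q).app (h ⁻¹ᵁ (π ⁻¹ᵁ ⊤)))
    (Coherent.pullbackComp_inv_app_pullSec h π E ⊤ x)

/-- The Grassmannian of a free module over any scheme. -/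
theorem exists_isGrass_free (X : Scheme.{u}) (n e : ℕ) :
    ∃ (G : Scheme.{u}) (π : G ⟶ X) (Q : G.Modules)
      (q : (Scheme.Modules.pullback π).obj (freeMod X (ULift.{u} (Fin n))) ⟶ Q),
      Grass.IsGrass π (freeMod X (ULift.{u} (Fin n))) e Q q := by
  let a := specULiftZIsTerminal.from (Gr.{u} n e)
  let b := specULiftZIsTerminal.from X
  let p := pullback.fst a b
  let π := pullback.snd a b
  let D := (univ n e).pull p
  refine ⟨pullback a b, π, D.L, qOf π D.t, D.isFinLocFreeOfRank, epi_qOf π D, fun T g L hL s hs => ?_⟩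
  haveI := hs
  haveI := epi_valOf g s
  let Ds : Datum n e T := Datum.ofEpi hL (valOf g s)
  have hkey : ∀ (h : T ⟶ pullback a b) (hg : h ≫ π = g) (i : (Scheme.Modules.pullback h).obj D.L ≅ L),
      Grass.quotBC hg (qOf π D.t) ≫ i.hom = s ↔ ∀ j, i.hom.app ⊤ ((D.pull h).t j) = Ds.t j := by
    intro h hg i
    have h1 : ∀ j : ULift.{u} (Fin n), (Grass.quotBC hg (qOf π D.t) ≫ i.hom).app (g ⁻¹ᵁ ⊤)
        (pullSec g (unitVal (freeInj j) ⊤)) = i.hom.app ⊤ ((D.pull h).t j.down) := fun j => by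
      show i.hom.app _ ((Grass.quotBC hg (qOf π D.t)).app _ _) = _
      rw [quotBC_app_pullSec, qOf_app]
      rfl
    refine ⟨fun h2 j => ?_, fun h2 => hom_ext_free g _ _ fun j => ?_⟩
    · rw [← h1 ⟨j⟩, h2]
      rfl
    · rw [h1, h2]
      rfl
  obtain ⟨g₀, hg₀, hg₀'⟩ := existsUnique_hom Ds
  let h₀ : T ⟶ pullback a b := pullback.lift g₀ g (specULiftZIsTerminal.hom_ext _ _)
  have hD : ∀ h : T ⟶ pullback a b, (D.pull h).ker = ((univ n e).pull (h ≫ p)).ker := fun h =>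
    (Datum.pull_comp_ker (univ n e) p h).symm
  obtain ⟨i, hi⟩ := (D.pull h₀).exists_iso Ds (by rw [hD, show h₀ ≫ p = g₀ from pullback.lift_fst _ _ _, hg₀])
  refine ⟨h₀, ⟨pullback.lift_snd _ _ _, i, (hkey h₀ _ i).2 hi⟩, ?_⟩
  rintro h ⟨hg, i', hi'⟩
  refine pullback.hom_ext ?_ (hg.trans (pullback.lift_snd _ _ _).symm)
  rw [pullback.lift_fst]
  refine hg₀' _ ?_
  show ((univ n e).pull (h ≫ p)).ker = Ds.ker
  rw [← hD]
  exact (D.pull h).ker_eq_of_iso Ds i' ((hkey h hg i').1 hi')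

/-- A Grassmannian of a module gives one of each quotient. -/
theorem exists_isGrass_of_epi {E₁ E₂ : X.Modules} [Coh.IsQCoh E₁] [Coh.IsQCoh E₂] (v : E₁ ⟶ E₂) [Epi v]
    {π₁ : G ⟶ X} {Q₁ : G.Modules} {q₁ : (Scheme.Modules.pullback π₁).obj E₁ ⟶ Q₁}
    (hG₁ : Grass.IsGrass π₁ E₁ e Q₁ q₁) :
    ∃ (G₂ : Scheme.{u}) (π₂ : G₂ ⟶ X) (Q₂ : G₂.Modules) (q₂ : (Scheme.Modules.pullback π₂).obj E₂ ⟶ Q₂),
      Grass.IsGrass π₂ E₂ e Q₂ q₂ := by
  haveI := hG₁.epi
  haveI : Coh.IsQCoh (kernel v) := Coherent.isQCoh_kernel v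
  let φ := (Scheme.Modules.pullback π₁).map (kernel.ι v) ≫ q₁
  obtain ⟨Z, j, hj, hZ⟩ := exists_zero_locus (EGA43.InjFibre.isQCoh_pullback π₁ (kernel v)) hG₁.rank φ
  have hkill : ∀ {T : Scheme.{u}} (h : T ⟶ G) (g : T ⟶ X) (hg : h ≫ π₁ = g),
      (Scheme.Modules.pullback h).map φ = 0 ↔
        (Scheme.Modules.pullback g).map (kernel.ι v) ≫ Grass.quotBC hg q₁ = 0 := fun h g hg => by
    rw [← quotBC_map, ← cancel_epi ((Scheme.Modules.pullbackComp h π₁).inv.app (kernel v)), comp_zero,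
      ← cancel_epi ((Scheme.Modules.pullbackCongr hg).inv.app (kernel v)), comp_zero]
  obtain ⟨s₀, hs₀⟩ := exists_desc_pullback (j ≫ π₁) v (Grass.quotBC rfl q₁)
    ((hkill j _ rfl).1 ((hZ Z j).2 ⟨𝟙 _, Category.id_comp _⟩))
  haveI : Epi ((Scheme.Modules.pullback (j ≫ π₁)).map v ≫ s₀) := by rw [hs₀]; exact epi_quotBC q₁ rfl
  haveI : Epi s₀ := epi_of_epi ((Scheme.Modules.pullback (j ≫ π₁)).map v) s₀
  have hj₀ : Classifies q₁ (j ≫ π₁) ((Scheme.Modules.pullback (j ≫ π₁)).map v ≫ s₀) j :=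
    ⟨rfl, Iso.refl _, by rw [hs₀]; exact Category.comp_id _⟩
  refine ⟨Z, j ≫ π₁, _, s₀, isFinLocFreeOfRank_pullback j hG₁.rank, inferInstance, fun T g L hL s hs => ?_⟩
  haveI := hs
  haveI := Grass.epi_pullback_map g v
  obtain ⟨h₁, ⟨hg₁, a, ha⟩, huniq⟩ := hG₁.univ T g L hL ((Scheme.Modules.pullback g).map v ≫ s) (epi_comp _ _)
  obtain ⟨z, hz⟩ := (hZ T h₁).1 (by
    rw [hkill h₁ g hg₁, ← cancel_mono a.hom, Category.assoc, ha, ← Category.assoc, ← Functor.map_comp,
      kernel.condition, Functor.map_zero, zero_comp, zero_comp])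
  have hzg : z ≫ j ≫ π₁ = g := by rw [← Category.assoc, hz, hg₁]
  refine ⟨z, ⟨hzg, ?_⟩, ?_⟩
  · subst hz
    obtain ⟨p, d, hd⟩ := hj₀.comp z hzg
    rw [quotBC_map] at hd
    refine ⟨d.symm ≪≫ a, ?_⟩
    rw [← cancel_epi ((Scheme.Modules.pullback g).map v), ← Category.assoc, ← hd]
    simp only [Iso.trans_hom, Iso.symm_hom, Category.assoc, Iso.hom_inv_id_assoc]
    exact ha
  · rintro z' ⟨hg', a', ha'⟩
    obtain ⟨p, d, hd⟩ := hj₀.comp z' hg'
    rw [quotBC_map] at hd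
    have := huniq (z' ≫ j) ⟨p, d ≪≫ a', by rw [Iso.trans_hom, ← Category.assoc, hd, Category.assoc, ha']⟩
    rw [← hz] at this
    exact (cancel_mono j).1 this

/-- Over an affine base a module of finite type has a Grassmannian. -/
theorem exists_isGrass_affine [IsAffine X] (E : X.Modules) (hE : Coh.IsCoh E) (e : ℕ) :
    ∃ (G : Scheme.{u}) (π : G ⟶ X) (Q : G.Modules) (q : (Scheme.Modules.pullback π).obj E ⟶ Q),
      Grass.IsGrass π E e Q q := by
  classical
  haveI : Coh.IsQCoh E := hE.1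
  obtain ⟨n, s, hs⟩ := (finite_sections E (locallyFinGen_of_isFT E hE.2) (isAffineOpen_top X)).exists_fin
  let v : freeMod X (ULift.{u} (Fin n)) ⟶ E := freeDesc fun i => unitDesc E (s i.down)
  haveI : Epi v := epi_of_genOn_top (genOn_of_span_top E (isAffineOpen_top X) _ (by
    rw [← hs]
    congr 1
    exact Equiv.ulift.surjective.range_comp s))
  haveI := isQCoh_freeMod (X := X) (I := ULift.{u} (Fin n))
  obtain ⟨G, π, Q, q, hG⟩ := exists_isGrass_free X n e
  exact exists_isGrass_of_epi v hG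

section piece

variable {E : X.Modules} {U : X.Opens} {π : G ⟶ U.toScheme} {Q : G.Modules}
  {q : (Scheme.Modules.pullback π).obj ((Scheme.Modules.pullback U.ι).obj E) ⟶ Q}

/-- The translation of classifications through an open of the base. -/
theorem piece_iff {T : Scheme.{u}} {f : T ⟶ X} {g : T ⟶ U.toScheme} (hg : g ≫ U.ι = f) {t : T ⟶ G} (ht : t ≫ π = g)
    (h : t ≫ π ≫ U.ι = f) {L : T.Modules} (i : (Scheme.Modules.pullback t).obj Q ≅ L)
    (σ : (Scheme.Modules.pullback f).obj E ⟶ L) :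
    Grass.quotBC h ((Scheme.Modules.pullbackComp π U.ι).inv.app E ≫ q) ≫ i.hom = σ ↔
      Grass.quotBC ht q ≫ i.hom =
        (Scheme.Modules.pullbackComp g U.ι).hom.app E ≫ (Scheme.Modules.pullbackCongr hg).hom.app E ≫ σ := by
  have h1 : Grass.quotBC h ((Scheme.Modules.pullbackComp π U.ι).inv.app E ≫ q) =
      (Scheme.Modules.pullbackCongr hg).inv.app E ≫ (Scheme.Modules.pullbackComp g U.ι).inv.app E ≫
        Grass.quotBC ht q := by
    subst ht
    have hg' : (t ≫ π) ≫ U.ι = f := hg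
    have h2 := quotBC_comp (𝟙 ((Scheme.Modules.pullback U.ι).obj E)) (rfl : π ≫ U.ι = π ≫ U.ι) h hg'
    have h3 : Grass.quotBC (rfl : π ≫ U.ι = π ≫ U.ι) (𝟙 ((Scheme.Modules.pullback U.ι).obj E)) =
        (Scheme.Modules.pullbackComp π U.ι).inv.app E := by
      simp [Grass.quotBC, pullbackCongr_inv_app]
    rw [h3] at h2
    rw [quotBC_comp_map, ← h2]
    simp [Grass.quotBC, pullbackCongr_inv_app, Category.assoc]
  rw [h1]
  constructor
  · rintro rfl
    simp
  · intro h2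
    rw [Category.assoc, Category.assoc, h2]
    simp

/-- The Grassmannian over an open represents the quotients of things lying over it. -/
theorem exists_piece (hG : Grass.IsGrass π ((Scheme.Modules.pullback U.ι).obj E) e Q q) :
    ∃ (Z : Over X) (j : (yoneda.obj Z : (Over X)ᵒᵖ ⥤ Type u) ⟶ qFun E e),
      (Set.range Z.hom ⊆ (U : Set X)) ∧
      (∀ (T : Over X) (t t' : T ⟶ Z), j.app (op T) t = j.app (op T) t' → t = t') ∧
      ∀ (T : Over X) (φ : QElt E e T), Set.range T.hom ⊆ (U : Set X) → ∃ t : T ⟶ Z, j.app (op T) t = φ := by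
  haveI := hG.epi
  let Z : Over X := Over.mk (π ≫ U.ι)
  let s : bc E Z ⟶ Q := (Scheme.Modules.pullbackComp π U.ι).inv.app E ≫ q
  haveI : Epi s := epi_comp _ _
  let K : QElt E e Z := QElt.mk (T := Z) s hG.rank inferInstance
  let j : (yoneda.obj Z : (Over X)ᵒᵖ ⥤ Type u) ⟶ qFun E e :=
    { app := fun T => TypeCat.ofHom fun t => QElt.pull t K
      naturality := fun T T' b => ConcreteCategory.hom_ext _ _ fun t => QElt.pull_comp t b.unop K }
  refine ⟨Z, j, ?_, fun T t t' h => ?_, fun T φ hr => ?_⟩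
  · rintro _ ⟨y, rfl⟩
    exact (π y).2
  · replace h : QElt.pull t K = QElt.pull t' K := h
    rw [QElt.pull_mk, QElt.pull_mk, QElt.mk_eq_mk] at h
    obtain ⟨i, hi⟩ := h
    have e1 : t'.left ≫ π = t.left ≫ π := by
      rw [← cancel_mono U.ι, Category.assoc, Category.assoc]
      exact (Over.w t').trans (Over.w t).symm
    have hg : (t.left ≫ π) ≫ U.ι = T.hom := (Category.assoc _ _ _).trans (Over.w t)
    refine Over.OverMorphism.ext ((hG.univ T.left (t.left ≫ π) _ (isFinLocFreeOfRank_pullback t'.left hG.rank)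
      (Grass.quotBC e1 q) (epi_quotBC q _)).unique ⟨rfl, i, ?_⟩ ⟨e1, Iso.refl _, Category.comp_id _⟩)
    rw [(piece_iff hg rfl (Over.w t) i _).1 hi,
      ← (piece_iff hg e1 (Over.w t') (Iso.refl _) _).1 (Category.comp_id _)]
    exact Category.comp_id _
  · let g : T.left ⟶ U.toScheme := IsOpenImmersion.lift U.ι T.hom (by rwa [Scheme.Opens.range_ι])
    have hg : g ≫ U.ι = T.hom := IsOpenImmersion.lift_fac _ _ _
    haveI := φ.epi
    obtain ⟨h, ⟨hh, i, hi⟩, -⟩ := hG.univ T.left g φ.mod φ.rank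
      ((Scheme.Modules.pullbackComp g U.ι).hom.app E ≫ (Scheme.Modules.pullbackCongr hg).hom.app E ≫ φ.quot)
      inferInstance
    refine ⟨Over.homMk h (by show h ≫ π ≫ U.ι = _; rw [reassoc_of% hh, hg]), ?_⟩
    show QElt.pull _ K = φ
    conv_rhs => rw [← φ.mk_quot]
    rw [QElt.pull_mk, QElt.mk_eq_mk]
    exact ⟨i, (piece_iff hg hh _ i _).2 hi⟩

end piece

/-- A module of finite type has a Grassmannian. -/
theorem exists_isGrass (E : X.Modules) (hE : Coh.IsCoh E) (e : ℕ) :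
    ∃ (G : Scheme.{u}) (π : G ⟶ X) (Q : G.Modules) (q : (Scheme.Modules.pullback π).obj E ⟶ Q),
      Grass.IsGrass π E e Q q := by
  classical
  let U : X.affineOpens → X.Opens := fun V => V.1
  have hloc : ∀ V : X.affineOpens, ∃ (Z : Over X) (j : (yoneda.obj Z : (Over X)ᵒᵖ ⥤ Type u) ⟶ qFun E e),
      (Set.range Z.hom ⊆ (U V : Set X)) ∧
      (∀ (T : Over X) (t t' : T ⟶ Z), j.app (op T) t = j.app (op T) t' → t = t') ∧
      ∀ (T : Over X) (φ : QElt E e T), Set.range T.hom ⊆ (U V : Set X) → ∃ t : T ⟶ Z, j.app (op T) t = φ := fun V => by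
    haveI : IsAffine (U V).toScheme := V.2
    obtain ⟨G, π, Q, q, hG⟩ := exists_isGrass_affine _ (ZClosLib.isCoh_pullback (U V).ι E hE) e
    exact exists_piece hG
  choose Z j hsub hinj hsurj using hloc
  let X₀ : Over X := Over.mk (𝟙 X)
  let p : qFun E e ⟶ yoneda.obj X₀ :=
    { app := fun T => TypeCat.ofHom fun _ => (Over.homMk T.unop.hom (Category.comp_id _) : T.unop ⟶ X₀)
      naturality := fun T T' b => ConcreteCategory.hom_ext _ _ fun _ => Over.OverMorphism.ext (Over.w b.unop).symm }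
  obtain ⟨W, ⟨r⟩⟩ := Misc15.OverGlue.exists_representableBy (qFun E e) p U (fun T φ => by
      show ⨆ V, T.hom ⁻¹ᵁ U V = ⊤
      rw [← Scheme.Hom.preimage_iSup, show ⨆ V, U V = ⊤ from iSup_affineOpens_eq_top X, Scheme.Hom.preimage_top])
    Z j hinj (fun V T t => by
      show Set.range T.hom ⊆ _
      rw [← Over.w t]
      rintro _ ⟨y, rfl⟩
      exact hsub V ⟨t.left y, rfl⟩)
    (fun V T φ hr => hsurj V T φ hr) isSheaf_qFun
  let Ku : QElt E e W := r.homEquiv (𝟙 W)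
  have hr : ∀ {T : Over X} (t : T ⟶ W), r.homEquiv t = QElt.pull t Ku := fun t =>
    (congrArg r.homEquiv (Category.comp_id t).symm).trans (r.homEquiv_comp t (𝟙 W))
  refine ⟨W.left, W.hom, Ku.mod, Ku.quot, Ku.rank, Ku.epi, fun T g L hL σ hσ => ?_⟩
  haveI := hσ
  let φ : QElt E e (Over.mk g) := QElt.mk (T := Over.mk g) σ hL hσ
  have hφ : ∀ (h : T ⟶ W.left) (hg : h ≫ W.hom = g),
      (∃ i : (Scheme.Modules.pullback h).obj Ku.mod ≅ L, Grass.quotBC hg Ku.quot ≫ i.hom = σ) ↔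
        r.homEquiv (Over.homMk h hg : Over.mk g ⟶ W) = φ := by
    intro h hg
    rw [hr]
    conv_rhs => lhs; arg 2; rw [← Ku.mk_quot]
    rw [QElt.pull_mk]
    exact (QElt.mk_eq_mk (T := Over.mk g)).symm
  let t₀ := r.homEquiv.symm φ
  refine ⟨t₀.left, ⟨Over.w t₀, (hφ _ (Over.w t₀)).2 (Equiv.apply_symm_apply _ φ)⟩, ?_⟩
  rintro h ⟨hg, hi⟩
  exact congrArg Over.Hom.left ((Equiv.eq_symm_apply _).2 ((hφ h hg).1 hi))

end Groth.Agent.GrassLib
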