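import Groth.Prelude.Def_GrassD
import Mathlib.CategoryTheory.Abelian.Basic

/-!
# Classifying morphisms of quotients
-/

set_option autoImplicit false
set_option backward.isDefEq.respectTransparency false
set_option maxHeartbeats 1000000

universe u

open CategoryTheory CategoryTheory.Limits AlgebraicGeometry

namespace Groth.Agent.GrassLib

variable {X G G' T : Scheme.{u}} {π : G ⟶ X} {π' : G' ⟶ X} {E E' : X.Modules}

theorem pullbackCongr_inv_app {f g : T ⟶ X} (e : f = g) (M : X.Modules) :
    (Scheme.Modules.pullbackCongr e).inv.app M = eqToHom (by rw [e]) := by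
  subst e
  simp [Scheme.Modules.pullbackCongr]

/-- Base change of a base change. -/
theorem quotBC_comp {Q : G.Modules} (q : (Scheme.Modules.pullback π).obj E ⟶ Q) {c : G' ⟶ G} {h : T ⟶ G'}
    {g : T ⟶ X} (hc : c ≫ π = π') (hh : h ≫ π' = g) (hg : (h ≫ c) ≫ π = g) :
    Grass.quotBC hg q ≫ (Scheme.Modules.pullbackComp h c).inv.app Q = Grass.quotBC hh (Grass.quotBC hc q) := by
  subst hc
  subst hh
  have h1 := congr_app (Scheme.Modules.pseudofunctor_associativity (f := h) (g := c) (h := π)) E
  simp only [NatTrans.comp_app, Functor.whiskerRight_app, Functor.whiskerLeft_app, Functor.associator_hom_app,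
    Category.id_comp, eqToHom_app] at h1
  have h2 : (Scheme.Modules.pullbackComp h (c ≫ π)).inv.app E ≫
      (Scheme.Modules.pullback h).map ((Scheme.Modules.pullbackComp c π).inv.app E) =
        (Scheme.Modules.pullbackCongr hg).inv.app E ≫ (Scheme.Modules.pullbackComp (h ≫ c) π).inv.app E ≫
          (Scheme.Modules.pullbackComp h c).inv.app ((Scheme.Modules.pullback π).obj E) := by
    rw [pullbackCongr_inv_app]
    rw [← cancel_mono ((Scheme.Modules.pullbackComp h c).hom.app ((Scheme.Modules.pullback π).obj E)),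
      ← cancel_mono ((Scheme.Modules.pullbackComp (h ≫ c) π).hom.app E)]
    simp only [Category.assoc]
    rw [h1]
    simp
  simp only [Grass.quotBC, Category.assoc, Functor.map_comp]
  rw [(Scheme.Modules.pullbackComp h c).inv.naturality q, reassoc_of% h2.symm]
  simp [Scheme.Modules.pullbackCongr]

/-- Base change is natural in the module. -/
theorem quotBC_map {Q : G.Modules} (q : (Scheme.Modules.pullback π).obj E ⟶ Q) (v : E' ⟶ E) {h : T ⟶ G}
    {g : T ⟶ X} (hh : h ≫ π = g) :
    Grass.quotBC hh ((Scheme.Modules.pullback π).map v ≫ q) = (Scheme.Modules.pullback g).map v ≫ Grass.quotBC hh q := by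
  simp only [Grass.quotBC, Functor.map_comp]
  rw [← Category.assoc ((Scheme.Modules.pullback g).map v), (Scheme.Modules.pullbackCongr hh).inv.naturality v,
    Category.assoc, ← Category.assoc ((Scheme.Modules.pullback (h ≫ π)).map v),
    (Scheme.Modules.pullbackComp h π).inv.naturality v]
  simp

/-- Base change commutes with maps of quotients. -/
theorem quotBC_comp_map {Q Q' : G.Modules} (q : (Scheme.Modules.pullback π).obj E ⟶ Q) (a : Q ⟶ Q') {h : T ⟶ G}
    {g : T ⟶ X} (hh : h ≫ π = g) :
    Grass.quotBC hh (q ≫ a) = Grass.quotBC hh q ≫ (Scheme.Modules.pullback h).map a := by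
  simp [Grass.quotBC, Functor.map_comp, Category.assoc]

theorem epi_quotBC {Q : G.Modules} (q : (Scheme.Modules.pullback π).obj E ⟶ Q) [Epi q] {h : T ⟶ G}
    {g : T ⟶ X} (hh : h ≫ π = g) : Epi (Grass.quotBC hh q) := by
  haveI := Grass.epi_pullback_map h q
  dsimp only [Grass.quotBC]
  infer_instance

/-- A morphism classifies a quotient. -/
def Classifies {Q : G.Modules} (q : (Scheme.Modules.pullback π).obj E ⟶ Q) (g : T ⟶ X) {L : T.Modules}
    (s : (Scheme.Modules.pullback g).obj E ⟶ L) (h : T ⟶ G) : Prop :=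
  ∃ (hg : h ≫ π = g) (e : (Scheme.Modules.pullback h).obj Q ≅ L), Grass.quotBC hg q ≫ e.hom = s

/-- Composites classify composites. -/
theorem Classifies.comp {Q : G.Modules} {q : (Scheme.Modules.pullback π).obj E ⟶ Q} {L' : G'.Modules}
    {s' : (Scheme.Modules.pullback π').obj E ⟶ L'} {c : G' ⟶ G} (hc : Classifies q π' s' c)
    (h : T ⟶ G') {g : T ⟶ X} (hh : h ≫ π' = g) : Classifies q g (Grass.quotBC hh s') (h ≫ c) := by
  obtain ⟨hw, e, rfl⟩ := hc
  refine ⟨by rw [Category.assoc, hw, hh],
    ((Scheme.Modules.pullbackComp h c).app Q).symm ≪≫ (Scheme.Modules.pullback h).mapIso e, ?_⟩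
  rw [quotBC_comp_map, ← quotBC_comp q hw hh (by rw [Category.assoc, hw, hh])]
  simp

end Groth.Agent.GrassLib
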