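import Groth.Agent.GrassLib.Glue

/-!
# Change of frame
-/

set_option autoImplicit false
set_option linter.unusedSectionVars false
set_option backward.isDefEq.respectTransparency.types false
set_option maxHeartbeats 1000000

universe u

open CategoryTheory CategoryTheory.Limits AlgebraicGeometry Opposite TopologicalSpace
open Groth.Agent.Coherent Groth.Agent.PicLib

namespace Groth.Agent.GrassLib

variable {n q : ℕ} {T T' : Scheme.{u}} {L : T.Modules} {t : Fin n → Γ(L, ⊤)} {U : T.Opens} {I J : Fin q → Fin n}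

namespace IsFrame

/-- The frame indices are distinct. -/
theorem injective (h : IsFrame L t U I) {x : T} (hx : x ∈ U) : Function.Injective I := by
  classical
  intro a b hab
  by_contra hne
  haveI : Nonempty U := ⟨⟨x, hx⟩⟩
  have h1 : (Pi.single a (1 : Γ(T, U))) = Pi.single b 1 := (h.bij le_rfl).1 (by
    simp [Pi.single_apply, ite_smul, hab])
  have h2 := congrFun h1 a
  rw [Pi.single_eq_same, Pi.single_eq_of_ne hne] at h2
  exact one_ne_zero h2

/-- The coordinates of the sections in a frame. -/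
noncomputable def mat (h : IsFrame L t U J) {V : T.Opens} (hV : V ≤ U) (j : Fin n) (k : Fin q) : Γ(T, V) :=
  ((h.bij hV).2 (resM L (le_top : V ≤ ⊤) (t j))).choose k

theorem mat_spec (h : IsFrame L t U J) {V : T.Opens} (hV : V ≤ U) (j : Fin n) :
    ∑ k, h.mat hV j k • resM L (le_top : V ≤ ⊤) (t (J k)) = resM L (le_top : V ≤ ⊤) (t j) :=
  ((h.bij hV).2 (resM L (le_top : V ≤ ⊤) (t j))).choose_spec

theorem mat_eq (h : IsFrame L t U J) {V : T.Opens} (hV : V ≤ U) (j : Fin n) {a : Fin q → Γ(T, V)}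
    (ha : ∑ k, a k • resM L (le_top : V ≤ ⊤) (t (J k)) = resM L (le_top : V ≤ ⊤) (t j)) : h.mat hV j = a :=
  (h.bij hV).1 ((h.mat_spec hV j).trans ha.symm)

theorem mat_res (h : IsFrame L t U J) {V W : T.Opens} (hV : V ≤ U) (hW : W ≤ V) (j : Fin n) :
    h.mat (hW.trans hV) j = fun k => T.presheaf.map (homOfLE hW).op (h.mat hV j k) := by
  refine h.mat_eq _ j ?_
  have h1 := congrArg (resM L hW) (h.mat_spec hV j)
  simp only [map_sum, resM_smul, resM_resM] at h1
  exact h1

theorem mat_frame [DecidableEq (Fin q)] (h : IsFrame L t U J) {V : T.Opens} (hV : V ≤ U) (i : Fin q) :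
    h.mat hV (J i) = Pi.single i 1 :=
  h.mat_eq hV _ (by simp [Pi.single_apply, ite_smul])

/-- The transition matrix to the indices `I`. -/
noncomputable def trans (h : IsFrame L t U J) (I : Fin q → Fin n) {V : T.Opens} (hV : V ≤ U) :
    Matrix (Fin q) (Fin q) Γ(T, V) := fun i k => h.mat hV (I i) k

theorem sum_eq_vecMul (h : IsFrame L t U J) (I : Fin q → Fin n) {V : T.Opens} (hV : V ≤ U) (c : Fin q → Γ(T, V)) :
    ∑ i, c i • resM L (le_top : V ≤ ⊤) (t (I i)) =
      ∑ k, Matrix.vecMul c (h.trans I hV) k • resM L (le_top : V ≤ ⊤) (t (J k)) := by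
  conv_lhs => enter [2, i]; rw [← h.mat_spec hV (I i), Finset.smul_sum]
  rw [Finset.sum_comm]
  refine Finset.sum_congr rfl fun k _ => ?_
  simp only [smul_smul]
  rw [← Finset.sum_smul]
  rfl

theorem of_isUnit_det (h : IsFrame L t U J) (I : Fin q → Fin n) {V : T.Opens} (hV : V ≤ U)
    (hd : IsUnit (h.trans I hV).det) : IsFrame L t V I := by
  refine IsFrame.of_bij fun W hW => ?_
  have hd' : IsUnit (h.trans I (hW.trans hV)).det := by
    have e : h.trans I (hW.trans hV) = (h.trans I hV).map (T.presheaf.map (homOfLE hW).op).hom := by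
      ext i k
      exact congrFun (h.mat_res hV hW (I i)) k
    rw [e, ← RingHom.mapMatrix_apply, ← RingHom.map_det]
    exact hd.map _
  set M := h.trans I (hW.trans hV)
  have h1 : Function.Bijective (fun c : Fin q → Γ(T, W) => Matrix.vecMul c M) :=
    Function.bijective_iff_has_inverse.2 ⟨fun c => Matrix.vecMul c M⁻¹,
      fun c => by simp [Matrix.vecMul_vecMul, Matrix.mul_nonsing_inv _ hd'],
      fun c => by simp [Matrix.vecMul_vecMul, Matrix.nonsing_inv_mul _ hd']⟩
  convert (h.bij (hW.trans hV)).comp h1 using 1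
  funext c
  exact h.sum_eq_vecMul I _ c

theorem isUnit_det (h : IsFrame L t U J) (hI : IsFrame L t U I) : IsUnit (h.trans I (le_refl U)).det := by
  refine (Matrix.isUnit_iff_isUnit_det _).1 ((Matrix.vecMul_surjective_iff_isUnit).1 fun d => ?_)
  obtain ⟨c, hc⟩ := (hI.bij le_rfl).2 (∑ k, d k • resM L (le_top : U ≤ ⊤) (t (J k)))
  exact ⟨c, (h.bij le_rfl).1 ((h.sum_eq_vecMul I le_rfl c).symm.trans hc)⟩

theorem le_iSup {κ : Type*} (U : κ → T.Opens) (h : ∀ a, IsFrame L t (U a) I) : IsFrame L t (⨆ a, U a) I := by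
  refine IsFrame.of_bij fun V hV => ?_
  have hcov : V ≤ ⨆ a, V ⊓ U a := fun x hx => by
    obtain ⟨a, ha⟩ := Opens.mem_iSup.1 (hV hx)
    exact Opens.mem_iSup.2 ⟨a, hx, ha⟩
  constructor
  · intro c c' hcc
    funext k
    refine TopCat.Sheaf.eq_of_locally_eq' T.sheaf (fun a => V ⊓ U a) V (fun a => homOfLE inf_le_left) hcov _ _
      fun a => ?_
    have h1 := congrArg (resM L (inf_le_left : V ⊓ U a ≤ V)) hcc
    simp only [map_sum, resM_smul, resM_resM] at h1
    exact congrFun (((h a).bij (inf_le_right : V ⊓ U a ≤ U a)).1 h1) k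
  · intro x
    choose d hd using fun a => ((h a).bij (inf_le_right : V ⊓ U a ≤ U a)).2 (resM L inf_le_left x)
    have hcompat : ∀ k, TopCat.Presheaf.IsCompatible T.sheaf.obj (fun a => V ⊓ U a) fun a => d a k := by
      intro k a b
      let W := (V ⊓ U a) ⊓ (V ⊓ U b)
      have key : ∀ e (hle : W ≤ V ⊓ U e),
          ∑ k, T.presheaf.map (homOfLE hle).op (d e k) • resM L (le_top : W ≤ ⊤) (t (I k)) =
            resM L (hle.trans inf_le_left) x := by
        intro e hle
        have h1 := congrArg (resM L hle) (hd e)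
        simp only [map_sum, resM_smul, resM_resM] at h1
        exact h1
      exact congrFun (((h a).bij (inf_le_left.trans inf_le_right : W ≤ U a)).1
        ((key a inf_le_left).trans (key b inf_le_right).symm)) k
    choose c hc using fun k => (TopCat.Sheaf.existsUnique_gluing' T.sheaf (fun a => V ⊓ U a) V
      (fun a => homOfLE inf_le_left) hcov (fun a => d a k) (hcompat k)).exists
    refine ⟨c, AmpleLib.sec_ext L _ _ fun y hy => ?_⟩
    obtain ⟨a, ha⟩ := Opens.mem_iSup.1 (hV hy)
    refine ⟨V ⊓ U a, inf_le_left, ⟨hy, ha⟩, ?_⟩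
    simp only [map_sum, resM_smul, resM_resM]
    rw [← hd a]
    exact Finset.sum_congr rfl fun k _ => congrArg (· • _) (hc k a)

end IsFrame

namespace Datum

variable (D : Datum n q T)

/-- The open where the sections indexed by `I` form a frame. -/
def frameLocus (I : Fin q → Fin n) : T.Opens := ⨆ U : {U : T.Opens // IsFrame D.L D.t U I}, U.1

theorem isFrame_frameLocus (I : Fin q → Fin n) : IsFrame D.L D.t (D.frameLocus I) I :=
  IsFrame.le_iSup _ fun U => U.2

theorem le_frameLocus {I : Fin q → Fin n} {U : T.Opens} (h : IsFrame D.L D.t U I) : U ≤ D.frameLocus I :=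
  le_iSup (fun V : {V : T.Opens // IsFrame D.L D.t V I} => V.1) ⟨U, h⟩

theorem pull_frame (h : T' ⟶ T) {U : T.Opens} (hI : IsFrame D.L D.t U I) :
    IsFrame (D.pull h).L (D.pull h).t (h ⁻¹ᵁ U) I := by
  have h1 := IsBasisOn.pull h hI
  simp only [← resM_pullSec] at h1
  exact h1

theorem mat_pull (h : T' ⟶ T) (hJ : IsFrame D.L D.t U J) {V : T.Opens} (hV : V ≤ U) (j : Fin n) :
    (D.pull_frame h hJ).mat (h.preimage_mono hV) j = fun k => h.app V (hJ.mat hV j k) := by
  refine (D.pull_frame h hJ).mat_eq _ j ?_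
  have h1 := congrArg (pullSec h) (hJ.mat_spec hV j)
  rw [pullSec_sum, ← resM_pullSec] at h1
  simp only [pullSec_smul, ← resM_pullSec] at h1
  exact h1

theorem mem_frameLocus_of_pull {h : T' ⟶ T} {y : T'} {W : T'.Opens} (hy : y ∈ W)
    (hI : IsFrame (D.pull h).L (D.pull h).t W I) : h y ∈ D.frameLocus I := by
  obtain ⟨U, J, hyU, hJ⟩ := D.frame (h y)
  let W' : T'.Opens := W ⊓ h ⁻¹ᵁ U
  have hd := ((D.pull_frame h hJ).mono (inf_le_right : W' ≤ _)).isUnit_det (hI.mono (inf_le_left : W' ≤ W))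
  have e : ((D.pull_frame h hJ).mono (inf_le_right : W' ≤ _)).trans I (le_refl W') =
      (hJ.trans I (le_refl U)).map (h.appLE U W' inf_le_right).hom := by
    ext i k
    show IsFrame.mat _ _ _ _ = _
    refine congrFun (IsFrame.mat_eq _ _ _ (a := fun k => h.appLE U W' inf_le_right (hJ.mat le_rfl (I i) k)) ?_) k
    have h1 := (D.pull_frame h hJ).mat_spec (le_refl (h ⁻¹ᵁ U)) (I i)
    rw [D.mat_pull h hJ le_rfl] at h1
    have h2 := congrArg (resM (D.pull h).L (inf_le_right : W' ≤ h ⁻¹ᵁ U)) h1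
    simp only [map_sum, resM_smul, resM_resM] at h2
    exact h2
  rw [e, ← RingHom.mapMatrix_apply, ← RingHom.map_det] at hd
  set δ := (hJ.trans I (le_refl U)).det
  refine D.le_frameLocus (U := T.basicOpen δ) (hJ.of_isUnit_det I (T.basicOpen_le δ) ?_) ?_
  · have e' : hJ.trans I (T.basicOpen_le δ) =
        (hJ.trans I (le_refl U)).map (T.presheaf.map (homOfLE (T.basicOpen_le δ)).op).hom := by
      ext i k
      exact congrFun (hJ.mat_res le_rfl (T.basicOpen_le δ) (I i)) k
    rw [e', ← RingHom.mapMatrix_apply, ← RingHom.map_det]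
    exact T.toRingedSpace.isUnit_res_basicOpen δ
  · have h1 : y ∈ T'.basicOpen ((h.appLE U W' inf_le_right).hom δ) := by
      rw [T'.basicOpen_of_isUnit hd]
      exact ⟨hy, hyU⟩
    rw [Scheme.Hom.appLE, CommRingCat.comp_apply, Scheme.basicOpen_res] at h1
    have h2 := h1.2
    rwa [← Scheme.preimage_basicOpen] at h2

end Datum

end Groth.Agent.GrassLib
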