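import Mathlib.RingTheory.Grassmannian

/-!
# Quotients of a quotient are quotients
-/

set_option autoImplicit false
set_option linter.unusedSectionVars false

universe u

open CategoryTheory
open scoped TensorProduct

namespace Groth.Agent.GrassLib

variable {R : Type u} [CommRing R] {M₁ M₂ : Type u} [AddCommGroup M₁] [Module R M₁] [AddCommGroup M₂] [Module R M₂]
  (v : M₁ →ₗ[R] M₂) (hv : Function.Surjective v) {k : ℕ}
  {A : Type u} [CommRing A] [Algebra R A]

include hv in
theorem surjective_mkQ_comp (N : Submodule A (A ⊗[R] M₂)) : Function.Surjective (N.mkQ ∘ₗ v.baseChange A) :=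
  N.mkQ_surjective.comp (LinearMap.baseChange_surjective A hv)

/-- The quotient by the preimage. -/
noncomputable def comapQuotEquiv (N : Submodule A (A ⊗[R] M₂)) :
    ((A ⊗[R] M₁) ⧸ N.comap (v.baseChange A)) ≃ₗ[A] ((A ⊗[R] M₂) ⧸ N) :=
  (Submodule.quotEquivOfEq _ _ (by rw [LinearMap.ker_comp, Submodule.ker_mkQ])).trans
    ((N.mkQ ∘ₗ v.baseChange A).quotKerEquivOfSurjective (surjective_mkQ_comp v hv N))

theorem comapQuotEquiv_mkQ (N : Submodule A (A ⊗[R] M₂)) (x : A ⊗[R] M₁) :
    comapQuotEquiv v hv N (Submodule.mkQ _ x) = N.mkQ (v.baseChange A x) := by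
  simp [comapQuotEquiv, LinearMap.quotKerEquivOfSurjective_apply_mk]

/-- A quotient of `M₂` as a quotient of `M₁`. -/
noncomputable def grassComap (N : Module.Grassmannian A (A ⊗[R] M₂) k) : Module.Grassmannian A (A ⊗[R] M₁) k :=
  { toSubmodule := N.toSubmodule.comap (v.baseChange A)
    finite_quotient := Module.Finite.equiv (comapQuotEquiv v hv N.toSubmodule).symm
    projective_quotient := Module.Projective.of_equiv (comapQuotEquiv v hv N.toSubmodule).symm
    rankAtStalk_eq := fun p =>
      (congrFun (Module.rankAtStalk_eq_of_equiv (comapQuotEquiv v hv N.toSubmodule)) p).trans (N.rankAtStalk_eq p) }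

theorem grassComap_injective : Function.Injective (grassComap (A := A) (k := k) v hv) := fun N N' h =>
  Module.Grassmannian.ext (Submodule.comap_injective_of_surjective (LinearMap.baseChange_surjective A hv)
    (congrArg Module.Grassmannian.toSubmodule h))

theorem exists_grassComap_eq (N : Module.Grassmannian A (A ⊗[R] M₁) k)
    (h : LinearMap.ker (v.baseChange A) ≤ N.toSubmodule) : ∃ N', grassComap v hv N' = N := by
  let N₀ := N.toSubmodule.map (v.baseChange A)
  have h0 : N₀.comap (v.baseChange A) = N.toSubmodule := by
    rw [Submodule.comap_map_eq, sup_eq_left.2 h]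
  let e := (Submodule.quotEquivOfEq _ _ h0).symm.trans (comapQuotEquiv v hv N₀)
  exact ⟨{ toSubmodule := N₀
           finite_quotient := Module.Finite.equiv e
           projective_quotient := Module.Projective.of_equiv e
           rankAtStalk_eq := fun p =>
            (congrFun (Module.rankAtStalk_eq_of_equiv e.symm) p).trans (N.rankAtStalk_eq p) },
    Module.Grassmannian.ext h0⟩

theorem map_grassComap {B : Type u} [CommRing B] [Algebra R B] (f : A →ₐ[R] B)
    (N : Module.Grassmannian A (A ⊗[R] M₂) k) :
    Module.Grassmannian.map f (grassComap v hv N) = grassComap v hv (Module.Grassmannian.map f N) := by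
  letI : Algebra A B := f.toAlgebra
  letI : IsScalarTower R A B := IsScalarTower.of_algebraMap_eq' f.comp_algebraMap.symm
  refine Module.Grassmannian.ext ?_
  show (Module.Grassmannian.map f (grassComap v hv N)).toSubmodule =
    (Module.Grassmannian.map f N).toSubmodule.comap (v.baseChange B)
  rw [Module.Grassmannian.map_toSubmodule, Module.Grassmannian.map_toSubmodule]
  let e := comapQuotEquiv v hv N.toSubmodule
  have h : (e.toLinearMap.baseChange B) ∘ₗ Module.Grassmannian.baseChangeMkQ B (N.toSubmodule.comap (v.baseChange A)) =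
      Module.Grassmannian.baseChangeMkQ B N.toSubmodule ∘ₗ v.baseChange B := by
    refine TensorProduct.AlgebraTensorModule.ext fun b m => ?_
    simp [Module.Grassmannian.baseChangeMkQ, e, comapQuotEquiv, LinearMap.quotKerEquivOfSurjective_apply_mk]
  rw [← LinearMap.ker_comp, ← h]
  exact (LinearEquiv.ker_comp (e.baseChange A B) _).symm

end Groth.Agent.GrassLib
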