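import Groth.Agent.PicLib.BasisOn
import Groth.Agent.RelVALib.UPFunctor
import Groth.Agent.CohCmpLib.Degree0

/-!
# Rank `q` quotients of a free module of rank `n`, through generating sections

A rank `q` locally free quotient of `O^n` is recorded as a module with `n` global sections of which `q` form a
basis near each point; two of them are identified when the sections satisfy the same relations on all opens.
-/

set_option autoImplicit false
set_option linter.unusedSectionVars false
set_option backward.isDefEq.respectTransparency.types false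
set_option maxHeartbeats 1000000

universe u

open CategoryTheory CategoryTheory.Limits AlgebraicGeometry Opposite TopologicalSpace
open Groth.Agent.Coherent Groth.Agent.PicLib

namespace Groth.Agent.GrassLib

variable {n q : ℕ} {T T' T'' : Scheme.{u}}

/-- The sections indexed by `I` form a basis on all opens inside `U`. -/
def IsFrame (L : T.Modules) (t : Fin n → Γ(L, ⊤)) (U : T.Opens) (I : Fin q → Fin n) : Prop :=
  IsBasisOn L U fun i : ULift.{u} (Fin q) => resM L le_top (t (I i.down))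

/-- Sections of which `q` form a basis near each point. -/
structure Datum (n q : ℕ) (T : Scheme.{u}) where
  /-- the module -/
  L : T.Modules
  /-- the sections -/
  t : Fin n → Γ(L, ⊤)
  frame : ∀ x : T, ∃ (U : T.Opens) (I : Fin q → Fin n), x ∈ U ∧ IsFrame L t U I

namespace IsFrame

variable {L : T.Modules} {t : Fin n → Γ(L, ⊤)} {U V : T.Opens} {I : Fin q → Fin n}

theorem mono (h : IsFrame L t U I) (hV : V ≤ U) : IsFrame L t V I := fun W hW => by
  simpa only [resM_resM] using h (hW.trans hV)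

theorem bij (h : IsFrame L t U I) (hV : V ≤ U) :
    Function.Bijective fun c : Fin q → Γ(T, V) => ∑ i, c i • resM L (le_top : V ≤ ⊤) (t (I i)) := by
  let e : (ULift.{u} (Fin q) → Γ(T, V)) ≃ (Fin q → Γ(T, V)) := Equiv.arrowCongr Equiv.ulift (Equiv.refl _)
  have h1 := (h hV).comp e.symm.bijective
  convert h1 using 1
  funext c
  simp only [Function.comp_apply, resM_resM]
  exact (Fintype.sum_equiv Equiv.ulift _ _ fun _ => rfl).symm

theorem of_bij (h : ∀ V : T.Opens, V ≤ U →
    Function.Bijective fun c : Fin q → Γ(T, V) => ∑ i, c i • resM L (le_top : V ≤ ⊤) (t (I i))) :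
    IsFrame L t U I := by
  intro V hV
  let e : (ULift.{u} (Fin q) → Γ(T, V)) ≃ (Fin q → Γ(T, V)) := Equiv.arrowCongr Equiv.ulift (Equiv.refl _)
  convert (h V hV).comp e.bijective using 1
  funext c
  simp only [Function.comp_apply, resM_resM]
  exact Fintype.sum_equiv Equiv.ulift _ _ fun _ => rfl

end IsFrame

namespace Datum

variable (D D' : Datum n q T)

/-- The relations between the sections on an open. -/
def ker (V : T.Opens) : Set (Fin n → Γ(T, V)) := {c | ∑ j, c j • resM D.L (le_top : V ≤ ⊤) (D.t j) = 0}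

/-- Two morphisms out of the module agreeing on the sections are equal. -/
theorem hom_ext {M : T.Modules} (a b : D.L ⟶ M) (h : ∀ j, a.app ⊤ (D.t j) = b.app ⊤ (D.t j)) : a = b := by
  refine Scheme.Modules.hom_ext _ _ fun V => ConcreteCategory.hom_ext _ _ fun x => ?_
  refine Props12.eq_of_nhds M _ _ fun y hy => ?_
  obtain ⟨U, I, hyU, hI⟩ := D.frame y
  refine ⟨V ⊓ U, inf_le_left, ⟨hy, hyU⟩, ?_⟩
  rw [← app_resM, ← app_resM]
  obtain ⟨c, hc⟩ := (hI.bij inf_le_right).2 (resM D.L (inf_le_left : V ⊓ U ≤ V) x)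
  rw [← hc, map_sum, map_sum]
  refine Finset.sum_congr rfl fun i _ => ?_
  rw [Scheme.Modules.Hom.app_smul, Scheme.Modules.Hom.app_smul, app_resM, app_resM, h]

/-- The presentation. -/
noncomputable def desc : freeMod T (ULift.{u} (Fin n)) ⟶ D.L :=
  freeDesc fun j => unitDesc D.L (D.t j.down)

theorem desc_app (V : T.Opens) (x : Γ(freeMod T (ULift.{u} (Fin n)), V)) :
    D.desc.app V x = ∑ j, freeSectionsEquiv V x ⟨j⟩ • resM D.L (le_top : V ≤ ⊤) (D.t j) := by
  classical
  have h : ∀ i : ULift.{u} (Fin n),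
      unitVal (freeInj i ≫ D.desc) V = resM D.L (le_top : V ≤ ⊤) (D.t i.down) := fun i => by
    rw [desc, freeInj_freeDesc, ← resM_unitVal _ (le_top : V ≤ ⊤), unitVal_unitDesc]
    all_goals (try rw [resM_resM])
  rw [freeMod_app]
  simp only [h]
  exact Fintype.sum_equiv Equiv.ulift _ _ fun _ => rfl

theorem desc_basisVec (j : Fin n) : D.desc.app ⊤ (freeBasisVec (X := T) (ULift.up.{u} j) ⊤) = D.t j := by
  classical
  rw [desc_app, Finset.sum_eq_single j]
  · rw [show freeSectionsEquiv (⊤ : T.Opens) (freeBasisVec (ULift.up.{u} j) ⊤) ⟨j⟩ = 1 from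
      (freeCoord_basisVec ⊤ _ _).trans (if_pos rfl), one_smul, resM_self]
  · intro i _ hi
    rw [show freeSectionsEquiv (⊤ : T.Opens) (freeBasisVec (ULift.up.{u} j) ⊤) ⟨i⟩ = 0 from
      (freeCoord_basisVec ⊤ _ _).trans (if_neg fun h => hi (congrArg ULift.down h).symm), zero_smul]
  · exact fun h => absurd (Finset.mem_univ j) h

instance epi_desc : Epi D.desc := ⟨fun {M} a b h => D.hom_ext a b fun j => by
  rw [← D.desc_basisVec j]
  exact congrArg (fun g : freeMod T (ULift.{u} (Fin n)) ⟶ M => g.app ⊤ (freeBasisVec (X := T) (ULift.up.{u} j) ⊤)) h⟩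

theorem exists_hom (h : ∀ V, D.ker V ⊆ D'.ker V) : ∃ a : D.L ⟶ D'.L, ∀ j, a.app ⊤ (D.t j) = D'.t j := by
  classical
  have hz : kernel.ι D.desc ≫ D'.desc = 0 := by
    refine Scheme.Modules.hom_ext _ _ fun V => ConcreteCategory.hom_ext _ _ fun x => ?_
    have h1 : freeSectionsEquiv V ((kernel.ι D.desc).app V x) ∘ ULift.up ∈ D.ker V := by
      show _ = _
      refine (D.desc_app V _).symm.trans ?_
      exact congrArg (fun g : kernel D.desc ⟶ D.L => g.app V x) (kernel.condition D.desc)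
    have h3 := h V h1
    show D'.desc.app V ((kernel.ι D.desc).app V x) = _
    rw [desc_app]
    simpa [ker] using h3
  refine ⟨Abelian.epiDesc D.desc D'.desc hz, fun j => ?_⟩
  conv_rhs => rw [← D'.desc_basisVec j, ← Abelian.comp_epiDesc D.desc D'.desc hz]
  rw [← D.desc_basisVec j]
  rfl

theorem exists_iso (h : D.ker = D'.ker) : ∃ e : D.L ≅ D'.L, ∀ j, e.hom.app ⊤ (D.t j) = D'.t j := by
  obtain ⟨a, ha⟩ := D.exists_hom D' fun V => by rw [h]
  obtain ⟨b, hb⟩ := D'.exists_hom D fun V => by rw [h]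
  refine ⟨⟨a, b, D.hom_ext _ _ fun j => ?_, D'.hom_ext _ _ fun j => ?_⟩, ha⟩
  · show b.app ⊤ (a.app ⊤ (D.t j)) = _
    rw [ha, hb]; rfl
  · show a.app ⊤ (b.app ⊤ (D'.t j)) = _
    rw [hb, ha]; rfl

theorem ker_subset_of_hom (a : D.L ⟶ D'.L) (ha : ∀ j, a.app ⊤ (D.t j) = D'.t j) (V : T.Opens) :
    D.ker V ⊆ D'.ker V := by
  intro c hc
  have h1 := congrArg (a.app V) hc
  simp only [map_sum, map_zero, Scheme.Modules.Hom.app_smul, app_resM, ha] at h1
  exact h1

theorem ker_eq_of_iso (e : D.L ≅ D'.L) (he : ∀ j, e.hom.app ⊤ (D.t j) = D'.t j) : D.ker = D'.ker := by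
  funext V
  refine Set.Subset.antisymm (D.ker_subset_of_hom D' e.hom he V) (D'.ker_subset_of_hom D e.inv (fun j => ?_) V)
  rw [← he j]
  exact congrArg (fun g : D.L ⟶ D.L => g.app ⊤ (D.t j)) e.hom_inv_id

/-- Inverse image of a datum. -/
noncomputable def pull (h : T' ⟶ T) : Datum n q T' where
  L := (Scheme.Modules.pullback h).obj D.L
  t j := pullSec h (D.t j)
  frame y := by
    obtain ⟨U, I, hy, hI⟩ := D.frame (h y)
    refine ⟨h ⁻¹ᵁ U, I, hy, ?_⟩
    have h1 := IsBasisOn.pull h hI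
    simp only [← resM_pullSec] at h1
    exact h1

theorem pullSec_sum (h : T' ⟶ T) {N : T.Modules} {U : T.Opens} {ι : Type*} (s : Finset ι) (g : ι → Γ(N, U)) :
    pullSec h (∑ i ∈ s, g i) = ∑ i ∈ s, pullSec h (g i) :=
  map_sum (((Scheme.Modules.pullbackPushforwardAdjunction h).unit.app N).app U).hom g s

theorem pull_ker_congr (h : T' ⟶ T) (e : D.ker = D'.ker) : (D.pull h).ker = (D'.pull h).ker := by
  obtain ⟨i, hi⟩ := D.exists_iso D' e
  refine (D.pull h).ker_eq_of_iso (D'.pull h) ((Scheme.Modules.pullback h).mapIso i) fun j => ?_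
  exact (RelVALib.map_app_pullSec h i.hom ⊤ (D.t j)).trans (congrArg (pullSec h) (hi j))

theorem pull_comp_ker (h : T' ⟶ T) (h' : T'' ⟶ T') : (D.pull (h' ≫ h)).ker = ((D.pull h).pull h').ker := by
  obtain ⟨c, hc⟩ := RelVALib.exists_compIso h' h (h' ≫ h) rfl D.L
  refine Datum.ker_eq_of_iso _ _ c fun j => ?_
  exact (hc ⊤ (D.t j) le_rfl).trans (resM_self _ _ _)

theorem pull_id_ker : (D.pull (𝟙 T)).ker = D.ker := by
  exact Datum.ker_eq_of_iso (D.pull (𝟙 T)) D ((Scheme.Modules.pullbackId T).app D.L)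
    fun j => CohCmpLib.pullbackId_hom_app_pullSec D.L ⊤ (D.t j)

end Datum

/-- A rank `q` quotient of `O^n`, as its module of relations. -/
def Elt (n q : ℕ) (T : Scheme.{u}) : Type u :=
  {K : ∀ V : T.Opens, Set (Fin n → Γ(T, V)) // ∃ D : Datum n q T, D.ker = K}

/-- The class of a datum. -/
def Elt.mk (D : Datum n q T) : Elt n q T := ⟨D.ker, D, rfl⟩

/-- A chosen datum. -/
noncomputable def Elt.datum (E : Elt n q T) : Datum n q T := E.2.choose

theorem Elt.mk_datum (E : Elt n q T) : Elt.mk E.datum = E := Subtype.ext E.2.choose_spec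

theorem Elt.mk_eq_mk {D D' : Datum n q T} : Elt.mk D = Elt.mk D' ↔ D.ker = D'.ker := Subtype.ext_iff

/-- Inverse image. -/
noncomputable def Elt.pull (h : T' ⟶ T) (E : Elt n q T) : Elt n q T' := Elt.mk (E.datum.pull h)

theorem Elt.pull_mk (h : T' ⟶ T) (D : Datum n q T) : (Elt.mk D).pull h = Elt.mk (D.pull h) :=
  Elt.mk_eq_mk.2 (Datum.pull_ker_congr _ _ h (Elt.mk_eq_mk.1 (Elt.mk D).mk_datum))

theorem Elt.pull_comp (h : T' ⟶ T) (h' : T'' ⟶ T') (E : Elt n q T) : E.pull (h' ≫ h) = (E.pull h).pull h' := by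
  rw [← E.mk_datum, Elt.pull_mk, Elt.pull_mk, Elt.pull_mk]
  exact Elt.mk_eq_mk.2 (Datum.pull_comp_ker _ h h')

theorem Elt.pull_id (E : Elt n q T) : E.pull (𝟙 T) = E := by
  rw [← E.mk_datum, Elt.pull_mk]
  exact Elt.mk_eq_mk.2 (Datum.pull_id_ker _)

/-- The functor of rank `q` quotients of `O^n`. -/
noncomputable def functor (n q : ℕ) : Scheme.{u}ᵒᵖ ⥤ Type u where
  obj T := Elt n q (unop T)
  map h := TypeCat.ofHom fun E => E.pull h.unop
  map_id T := ConcreteCategory.hom_ext _ _ fun E => Elt.pull_id E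
  map_comp a b := ConcreteCategory.hom_ext _ _ fun E => Elt.pull_comp a.unop b.unop E

end Groth.Agent.GrassLib
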