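import Mathlib

/-!
# Maximal minors indexed by subsets
-/

set_option autoImplicit false

universe u

namespace Groth.Agent.GrassLib

variable {n q : ℕ} {S : Type u} [CommRing S]

/-- Subsets of size `q`. -/
abbrev Sub (n q : ℕ) : Type := {s : Finset (Fin n) // s.card = q}

theorem card_sub : Fintype.card (Sub n q) = n.choose q := by
  rw [Fintype.card_finset_len, Fintype.card_fin]

/-- The increasing indices of a subset. -/
def subIdx (s : Sub n q) : Fin q → Fin n := s.1.orderEmbOfFin s.2

theorem subIdx_injective (s : Sub n q) : Function.Injective (subIdx s) := (s.1.orderEmbOfFin s.2).injective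

/-- A maximal minor. -/
def minor (a : Fin n → Fin q → S) (J : Fin q → Fin n) : S := Matrix.det fun i k => a (J i) k

theorem exists_sub_perm (J : Fin q → Fin n) (hJ : Function.Injective J) :
    ∃ (s : Sub n q) (π : Equiv.Perm (Fin q)), J = subIdx s ∘ π := by
  classical
  let s : Sub n q := ⟨Finset.univ.image J, by rw [Finset.card_image_of_injective _ hJ, Finset.card_univ, Fintype.card_fin]⟩
  have h : ∀ i, ∃ k, subIdx s k = J i := fun i => by
    have : J i ∈ Set.range (s.1.orderEmbOfFin s.2) := by
      rw [Finset.range_orderEmbOfFin]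
      exact Finset.mem_coe.2 (Finset.mem_image.2 ⟨i, Finset.mem_univ i, rfl⟩)
    exact this
  choose π hπ using h
  have hinj : Function.Injective π := fun a b hab => hJ (by rw [← hπ a, ← hπ b, hab])
  exact ⟨s, Equiv.ofBijective π (Finite.injective_iff_bijective.1 hinj), funext fun i => (hπ i).symm⟩

theorem minor_perm (a : Fin n → Fin q → S) (J : Fin q → Fin n) (π : Equiv.Perm (Fin q)) :
    minor a (J ∘ π) = Equiv.Perm.sign π * minor a J :=
  Matrix.det_permute π (fun i k => a (J i) k)

theorem exists_unit_minor (a : Fin n → Fin q → S) (J : Fin q → Fin n) (hJ : Function.Injective J) :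
    ∃ (s : Sub n q) (e : Sˣ), minor a J = e * minor a (subIdx s) := by
  obtain ⟨s, π, rfl⟩ := exists_sub_perm J hJ
  exact ⟨s, Units.map (Int.castRingHom S) (Equiv.Perm.sign π), by rw [minor_perm]; rfl⟩

theorem minor_mul (a : Fin n → Fin q → S) (M : Matrix (Fin q) (Fin q) S) (J : Fin q → Fin n) :
    minor (fun j k => ∑ l, a j l * M l k) J = minor a J * M.det :=
  Matrix.det_mul (fun i l => a (J i) l) M

theorem minor_map {T : Type u} [CommRing T] (φ : S →+* T) (a : Fin n → Fin q → S) (J : Fin q → Fin n) :
    minor (fun j k => φ (a j k)) J = φ (minor a J) :=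
  (RingHom.map_det φ _).symm

theorem minor_self (a : Fin n → Fin q → S) (I : Fin q → Fin n)
    (ha : ∀ i k, a (I i) k = if i = k then 1 else 0) : minor a I = 1 := by
  rw [minor, show (fun i k => a (I i) k) = (1 : Matrix (Fin q) (Fin q) S) from
    funext fun i => funext fun k => (ha i k).trans Matrix.one_apply.symm]
  exact Matrix.det_one

theorem minor_update (a : Fin n → Fin q → S) (I : Fin q → Fin n)
    (ha : ∀ i k, a (I i) k = if i = k then 1 else 0) (j : Fin n) (k : Fin q) :
    minor a (Function.update I k j) = a j k := by
  classical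
  have e : (fun i l => a (Function.update I k j i) l) =
      Matrix.updateRow (1 : Matrix (Fin q) (Fin q) S) k (∑ l, a j l • (1 : Matrix (Fin q) (Fin q) S) l) := by
    funext i l
    by_cases h : i = k
    · subst h
      simp [Function.update_self, Finset.sum_apply, Matrix.one_apply]
    · rw [Matrix.updateRow_ne h, Function.update_of_ne h, ha, Matrix.one_apply]
  rw [minor, e, Matrix.det_updateRow_sum]
  simp

theorem injective_update {I : Fin q → Fin n} (hI : Function.Injective I) {j : Fin n} (hj : j ∉ Set.range I) (k : Fin q) :
    Function.Injective (Function.update I k j) := by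
  intro a b h
  by_cases ha : a = k <;> by_cases hb : b = k
  · rw [ha, hb]
  · rw [ha, Function.update_self, Function.update_of_ne hb] at h
    exact absurd ⟨b, h.symm⟩ hj
  · rw [hb, Function.update_self, Function.update_of_ne ha] at h
    exact absurd ⟨a, h⟩ hj
  · rw [Function.update_of_ne ha, Function.update_of_ne hb] at h
    exact hI h

end Groth.Agent.GrassLib
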