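import Groth.Agent.GrassLib.Rep
import Groth.Agent.FinCovLib29.Basis
import Groth.Agent.LocFreeLib.Semilocal
import Groth.Agent.H8Lim.ModEq

/-!
# Quotient modules and data
-/

set_option autoImplicit false
set_option linter.unusedSectionVars false
set_option backward.isDefEq.respectTransparency.types false
set_option maxHeartbeats 1000000

universe u

open CategoryTheory CategoryTheory.Limits AlgebraicGeometry Opposite TopologicalSpace
open Groth.Agent.Coherent Groth.Agent.PicLib

namespace Groth.Agent.GrassLib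

variable {n q : ℕ} {T T' : Scheme.{u}}

namespace Datum

variable (D D' : Datum n q T)

/-- Along a morphism matching the sections, frames of the target are frames of the source. -/
theorem frame_of_hom (a : D.L ⟶ D'.L) (ha : ∀ j, a.app ⊤ (D.t j) = D'.t j) {U V : T.Opens} {I J : Fin q → Fin n}
    (hJ : IsFrame D.L D.t U J) (hI : IsFrame D'.L D'.t V I) : IsFrame D.L D.t (U ⊓ V) I := by
  let W := U ⊓ V
  refine hJ.of_isUnit_det I (inf_le_left : W ≤ U) ?_
  set M := hJ.trans I (inf_le_left : W ≤ U)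
  set M' := hI.trans J (inf_le_right : W ≤ V)
  refine IsUnit.of_mul_eq_one M'.det (?_ : M.det * M'.det = 1)
  rw [← Matrix.det_mul, show M * M' = 1 from ?_, Matrix.det_one]
  refine funext fun i => (hI.bij (inf_le_right : W ≤ V)).1 ?_
  classical
  have h1 : ∀ k, resM D'.L (le_top : W ≤ ⊤) (D'.t (J k)) = ∑ l, M' k l • resM D'.L (le_top : W ≤ ⊤) (D'.t (I l)) :=
    fun k => (hI.mat_spec (inf_le_right : W ≤ V) (J k)).symm
  have h2 : ∑ k, M i k • resM D'.L (le_top : W ≤ ⊤) (D'.t (J k)) = resM D'.L (le_top : W ≤ ⊤) (D'.t (I i)) := by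
    have h := congrArg (a.app W) (hJ.mat_spec (inf_le_left : W ≤ U) (I i))
    simp only [map_sum, Scheme.Modules.Hom.app_smul, app_resM, ha] at h
    exact h
  simp only [h1, Finset.smul_sum, smul_smul] at h2
  rw [Finset.sum_comm] at h2
  simp only [← Finset.sum_smul] at h2
  refine h2.trans ?_
  simp [Matrix.one_apply, ite_smul]

/-- A morphism matching the sections forces equal relations. -/
theorem ker_eq_of_hom (a : D.L ⟶ D'.L) (ha : ∀ j, a.app ⊤ (D.t j) = D'.t j) : D.ker = D'.ker :=
  D.ker_eq_of_hom_of_frames D' a ha fun x => by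
    obtain ⟨U, J, hx, hJ⟩ := D.frame x
    obtain ⟨V, I, hx', hI⟩ := D'.frame x
    exact ⟨U ⊓ V, I, ⟨hx, hx'⟩, D.frame_of_hom D' a ha hJ hI, hI.mono inf_le_right⟩

theorem isFinLocFreeOfRank : FlatMod.IsFinLocFreeOfRank q D.L := fun x => by
  obtain ⟨U, I, hx, hI⟩ := D.frame x
  refine ⟨U, hx, ?_⟩
  let D' := D.pull U.ι
  have h1 : IsFrame D'.L D'.t ⊤ I := (D.pull_frame U.ι hI).mono U.ι_preimage_self.symm.le
  let s : freeMod U.toScheme (ULift.{u} (Fin q)) ⟶ D'.L := freeDesc fun i => unitDesc D'.L (D'.t (I i.down))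
  have happ : ∀ (V : U.toScheme.Opens) (c : Γ(freeMod U.toScheme (ULift.{u} (Fin q)), V)),
      s.app V c = ∑ i, freeSectionsEquiv V c ⟨i⟩ • resM D'.L (le_top : V ≤ ⊤) (D'.t (I i)) := fun V c => by
    classical
    rw [freeMod_app]
    refine Fintype.sum_equiv Equiv.ulift _ _ fun i => ?_
    rw [show unitVal (freeInj i ≫ s) V = resM D'.L (le_top : V ≤ ⊤) (D'.t (I i.down)) from by
      rw [freeInj_freeDesc, ← resM_unitVal _ (le_top : V ≤ ⊤), unitVal_unitDesc]; all_goals (try rw [resM_resM])]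
    rfl
  haveI : IsIso s := by
    refine Scheme.Modules.Hom.isIso_iff_isIso_app.2 fun V => ?_
    refine (ConcreteCategory.isIso_iff_bijective _).2 ?_
    rw [show ⇑(s.app V) = _ from funext (happ V)]
    exact (h1.bij (le_top : V ≤ ⊤)).comp ((Equiv.arrowCongr Equiv.ulift (Equiv.refl _)).bijective.comp
      (freeSectionsEquiv (X := U.toScheme) (I := ULift.{u} (Fin q)) V).bijective)
  exact ⟨(Scheme.Modules.restrictFunctorIsoPullback U.ι).app D.L ≪≫ (asIso s).symm ≪≫ Props12.freeModIso _ q⟩

theorem isQCoh : Coh.IsQCoh D.L := LocFreeLib.isQCoh_of_isFinLocFreeOfRank D.isFinLocFreeOfRank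

end Datum

/-- A rank `q` locally free module generated by `n` sections gives a datum. -/
theorem exists_frame_of_epi {L : T.Modules} (hL : FlatMod.IsFinLocFreeOfRank q L) (t : Fin n → Γ(L, ⊤))
    [Epi (freeDesc fun j : ULift.{u} (Fin n) => unitDesc L (t j.down))] (x : T) :
    ∃ (U : T.Opens) (I : Fin q → Fin n), x ∈ U ∧ IsFrame L t U I := by
  classical
  obtain ⟨U₀, e, hx, he⟩ := FinCovLib29.exists_isBasisOn_of_rank hL x
  -- the basis is generated by the sections near `x`
  let s := freeDesc fun j : ULift.{u} (Fin n) => unitDesc L (t j.down)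
  have hgen : ∀ k, ∃ (W : T.Opens) (hW : W ≤ U₀), x ∈ W ∧ ∃ b : Fin n → Γ(T, W),
      ∑ j, b j • resM L (le_top : W ≤ ⊤) (t j) = resM L hW (e k) := fun k => by
    obtain ⟨W, hW, hxW, c, hc⟩ := Coherent.exists_lift_of_epi s U₀ (e k) x hx
    refine ⟨W, hW, hxW, fun j => freeSectionsEquiv W c ⟨j⟩, hc ▸ ?_⟩
    rw [freeMod_app]
    refine (Fintype.sum_equiv Equiv.ulift _ _ fun i => ?_).symm
    rw [show unitVal (freeInj i ≫ s) W = resM L (le_top : W ≤ ⊤) (t i.down) from by
      rw [freeInj_freeDesc, ← resM_unitVal _ (le_top : W ≤ ⊤), unitVal_unitDesc]; all_goals (try rw [resM_resM])]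
    rfl
  choose W hW hxW b hb using hgen
  let V : T.Opens := U₀ ⊓ Finset.univ.inf W
  have hxV : x ∈ V := by
    refine ⟨hx, ?_⟩
    show x ∈ ((Finset.univ.inf W : T.Opens) : Set T)
    rw [Opens.coe_finset_inf, Finset.inf_set_eq_iInter]
    simp only [Finset.mem_univ, Set.iInter_true, Set.mem_iInter]
    exact fun k => hxW k
  have hVU : V ≤ U₀ := inf_le_left
  have hVW : ∀ k, V ≤ W k := fun k => inf_le_right.trans (Finset.inf_le (Finset.mem_univ k))
  -- the two matrices
  let b' : Matrix (Fin q) (Fin n) Γ(T, V) := fun k j => T.presheaf.map (homOfLE (hVW ⟨k⟩)).op (b ⟨k⟩ j)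
  let a : Matrix (Fin n) (Fin q) Γ(T, V) := fun j k => he.coef hVU (resM L (le_top : V ≤ ⊤) (t j)) ⟨k⟩
  have hbV : ∀ (V' : T.Opens) (h : V' ≤ V) (k : Fin q),
      ∑ j, T.presheaf.map (homOfLE h).op (b' k j) • resM L (le_top : V' ≤ ⊤) (t j) = resM L (h.trans hVU) (e ⟨k⟩) := by
    intro V' h k
    have h1 := congrArg (resM L (h.trans (hVW ⟨k⟩))) (hb ⟨k⟩)
    simp only [map_sum, resM_smul, resM_resM] at h1
    refine Eq.trans (Finset.sum_congr rfl fun j _ => ?_) h1
    congr 1
    exact (ConcreteCategory.congr_hom (T.presheaf.map_comp (homOfLE (hVW ⟨k⟩)).op (homOfLE h).op) _).symm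
  have hba : b' * a = 1 := by
    funext k
    have h1 := he.coef_self hVU (⟨k⟩ : ULift.{u} (Fin q))
    have h2 : he.coef hVU (resM L hVU (e ⟨k⟩)) = fun i => (b' * a) k i.down := by
      refine he.coef_eq hVU ?_
      have h3 := hbV V le_rfl k
      simp only [homOfLE_refl, op_id, CategoryTheory.Functor.map_id, CommRingCat.id_apply] at h3
      conv_rhs => rw [← h3]
      simp only [Matrix.mul_apply, Finset.sum_smul]
      rw [Finset.sum_comm]
      refine Finset.sum_congr rfl fun j _ => ?_
      conv_rhs => rw [← he.coef_spec hVU (resM L (le_top : V ≤ ⊤) (t j)), Finset.smul_sum]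
      exact Finset.sum_congr rfl fun i _ => (smul_smul _ _ _).symm
    funext i
    have h3 := congrFun (h2.symm.trans h1) ⟨i⟩
    rw [h3, Matrix.one_apply]
    exact if_congr ⟨fun h => (congrArg ULift.down h).symm, fun h => congrArg ULift.up h.symm⟩ rfl rfl
  -- at the residue field some minor of `a` is nonzero
  let φ : Γ(T, V) →+* T.residueField x := (T.evaluation V x hxV).hom
  obtain ⟨I, hI⟩ : ∃ I : Fin q → Fin n, φ (Matrix.det fun i k => a (I i) k) ≠ 0 := by
    have h1 : b'.map φ * a.map φ = 1 := by rw [← Matrix.map_mul, hba, Matrix.map_one _ (map_zero φ) (map_one φ)]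
    have hsurj : Submodule.span (T.residueField x) (Set.range fun j => (a.map φ) j) = ⊤ := by
      refine top_le_iff.1 fun v _ => ?_
      rw [Submodule.mem_span_range_iff_exists_fun]
      refine ⟨Matrix.vecMul v (b'.map φ), ?_⟩
      have h2 := Matrix.vecMul_vecMul v (b'.map φ) (a.map φ)
      rw [h1, Matrix.vecMul_one] at h2
      conv_rhs => rw [← h2]
      funext k
      simp [Matrix.vecMul, dotProduct]
    obtain ⟨s', hs', hspan, hind⟩ := exists_linearIndependent (T.residueField x) (Set.range fun j => (a.map φ) j)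
    rw [hsurj] at hspan
    let B := Module.Basis.mk hind (by rw [Subtype.range_coe]; exact hspan.ge)
    haveI : Fintype s' := (Set.Finite.subset (Set.finite_range _) hs').fintype
    have hcard : Fintype.card s' = q := by
      rw [← Module.finrank_eq_card_basis B, Module.finrank_fintype_fun_eq_card, Fintype.card_fin]
    let σ : Fin q ≃ s' := (Fintype.equivFinOfCardEq hcard).symm
    choose I hI using fun i => hs' (σ i).2
    refine ⟨I, ?_⟩
    rw [RingHom.map_det]
    refine ((Matrix.isUnit_iff_isUnit_det _).1 ?_).ne_zero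
    rw [← Matrix.linearIndependent_rows_iff_isUnit]
    have h4 := hind.comp σ σ.injective
    rw [show (Subtype.val ∘ ⇑σ : Fin q → Fin q → T.residueField x) = fun i k => φ (a (I i) k) from
      funext fun i => (hI i).symm] at h4
    exact h4
  set δ := Matrix.det fun i k => a (I i) k
  refine ⟨T.basicOpen δ, I, (T.evaluation_ne_zero_iff_mem_basicOpen x hxV δ).1 hI, ?_⟩
  refine IsFrame.of_bij fun V' hV' => ?_
  have hV'V : V' ≤ V := hV'.trans (T.basicOpen_le δ)
  let M : Matrix (Fin q) (Fin q) Γ(T, V') := fun i k => T.presheaf.map (homOfLE hV'V).op (a (I i) k)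
  have hM : IsUnit M.det := by
    have hu := (T.toRingedSpace.isUnit_res_basicOpen δ).map (T.presheaf.map (homOfLE hV').op).hom
    replace hu : IsUnit ((T.presheaf.map (homOfLE (T.basicOpen_le δ)).op ≫ T.presheaf.map (homOfLE hV').op) δ) := hu
    rw [← Functor.map_comp] at hu
    rw [show M = Matrix.map (fun i k => a (I i) k) (T.presheaf.map (homOfLE hV'V).op).hom from rfl,
      ← RingHom.mapMatrix_apply, ← RingHom.map_det]
    exact hu
  let eV : (Fin q → Γ(T, V')) → Γ(L, V') := fun d => ∑ k, d k • resM L (hV'V.trans hVU) (e ⟨k⟩)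
  have heV : Function.Bijective eV := by
    convert (he (hV'V.trans hVU)).comp (Equiv.arrowCongr Equiv.ulift (Equiv.refl _)).symm.bijective using 1
    funext d
    exact (Fintype.sum_equiv Equiv.ulift _ _ fun _ => rfl).symm
  have hbij : Function.Bijective (fun c : Fin q → Γ(T, V') => Matrix.vecMul c M) :=
    Function.bijective_iff_has_inverse.2 ⟨fun c => Matrix.vecMul c M⁻¹,
      fun c => by simp [Matrix.vecMul_vecMul, Matrix.mul_nonsing_inv _ hM],
      fun c => by simp [Matrix.vecMul_vecMul, Matrix.nonsing_inv_mul _ hM]⟩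
  convert heV.comp hbij using 1
  funext c
  simp only [Function.comp_apply, eV, Matrix.vecMul, dotProduct, Finset.sum_smul, mul_smul]
  rw [Finset.sum_comm]
  refine Finset.sum_congr rfl fun i _ => ?_
  rw [← Finset.smul_sum]
  congr 1
  have h1 := congrArg (resM L hV'V) (he.coef_spec hVU (resM L (le_top : V ≤ ⊤) (t (I i))))
  simp only [map_sum, resM_smul, resM_resM] at h1
  refine h1.symm.trans ?_
  exact Fintype.sum_equiv Equiv.ulift _ _ fun _ => rfl

/-- The datum of a rank `q` quotient of `O^n`. -/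
noncomputable def Datum.ofEpi {L : T.Modules} (hL : FlatMod.IsFinLocFreeOfRank q L) (t : Fin n → Γ(L, ⊤))
    [Epi (freeDesc fun j : ULift.{u} (Fin n) => unitDesc L (t j.down))] : Datum n q T :=
  ⟨L, t, exists_frame_of_epi hL t⟩

/-- On an affine scheme a morphism out of a quasi-coherent module is determined by global sections. -/
theorem eq_zero_of_top [IsAffine T] {M N : T.Modules} [Coh.IsQCoh M] (h : M ⟶ N) (hh : ∀ w, h.app ⊤ w = 0) :
    h = 0 := by
  refine Scheme.Modules.hom_ext _ _ fun V => ConcreteCategory.hom_ext _ _ fun z => ?_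
  refine Props12.eq_of_nhds N _ _ fun y hy => ?_
  obtain ⟨f, hfV, hyf⟩ := (isAffineOpen_top T).exists_basicOpen_le ⟨y, hy⟩ (trivial : y ∈ (⊤ : T.Opens))
  refine ⟨T.basicOpen f, hfV, hyf, ?_⟩
  obtain ⟨m, w, hw⟩ := qcoh_exists_pow_smul (isAffineOpen_top T) M f (resM M hfV z)
  obtain ⟨v, hv⟩ := (isUnit_res_pow f (T.basicOpen_le f) le_rfl m).exists_left_inv
  have hz : resM M hfV z = v • resM M (T.basicOpen_le f) w := by rw [hw, smul_smul, hv, one_smul]
  rw [← app_resM, hz, Scheme.Modules.Hom.app_smul, app_resM, hh, map_zero, smul_zero]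
  exact (map_zero _).symm

/-- On an affine scheme relations are generated by global ones. -/
theorem Datum.ker_eq_of_top_le [IsAffine T] (D D' : Datum n q T) (h : D.ker ⊤ ⊆ D'.ker ⊤) : D.ker = D'.ker := by
  classical
  haveI := D.isQCoh
  haveI := isQCoh_freeMod (X := T) (I := ULift.{u} (Fin n))
  haveI := Coherent.isQCoh_kernel D.desc
  have hz : kernel.ι D.desc ≫ D'.desc = 0 := by
    refine eq_zero_of_top _ fun x => ?_
    have h1 : freeSectionsEquiv (⊤ : T.Opens) ((kernel.ι D.desc).app ⊤ x) ∘ ULift.up ∈ D.ker ⊤ := by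
      show _ = _
      refine (D.desc_app ⊤ _).symm.trans ?_
      exact congrArg (fun g : kernel D.desc ⟶ D.L => g.app ⊤ x) (kernel.condition D.desc)
    show D'.desc.app ⊤ ((kernel.ι D.desc).app ⊤ x) = _
    rw [desc_app]
    exact h h1
  refine D.ker_eq_of_hom D' (Abelian.epiDesc D.desc D'.desc hz) fun j => ?_
  conv_rhs => rw [← D'.desc_basisVec j, ← Abelian.comp_epiDesc D.desc D'.desc hz]
  rw [← D.desc_basisVec j]
  rfl

/-- On an affine scheme the sections generate the global sections. -/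
theorem Datum.surjective_top [IsAffine T] (D : Datum n q T) (x : Γ(D.L, ⊤)) :
    ∃ c : Fin n → Γ(T, ⊤), ∑ j, c j • D.t j = x := by
  haveI := D.isQCoh
  haveI := isQCoh_freeMod (X := T) (I := ULift.{u} (Fin n))
  obtain ⟨c, hc⟩ := H8Lim.app_surjective_of_epi D.desc (isAffineOpen_top T) x
  refine ⟨fun j => freeSectionsEquiv ⊤ c ⟨j⟩, hc ▸ ?_⟩
  rw [desc_app]
  exact Finset.sum_congr rfl fun j _ => by rw [resM_self]

end Groth.Agent.GrassLib
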