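import Groth.Agent.GrassLib.Minors
import Groth.Agent.GrassLib.Functor
import Groth.Agent.BrSev28.ProjPts

/-!
# The Plücker closed immersion
-/

set_option autoImplicit false
set_option linter.unusedSectionVars false
set_option backward.isDefEq.respectTransparency.types false
set_option maxHeartbeats 1000000

universe u

open CategoryTheory CategoryTheory.Limits AlgebraicGeometry Opposite TopologicalSpace MvPolynomial
open HomogeneousLocalization Groth.Agent.ProjLib

namespace Groth.Agent.GrassLib

variable {n q : ℕ}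

/-- The chart inclusion. -/
noncomputable def inc (I : Idx.{u} n q) : chart I ⟶ Gr.{u} n q :=
  Scheme.LocalRepresentability.toGlued (F := ⟨functor.{u} n q, isSheaf_functor⟩)
    (f := chartMap.{u} (n := n) (q := q)) (fun J => isOpenImmersion_chartMap J) I

instance (I : Idx.{u} n q) : IsOpenImmersion (inc I) :=
  inferInstanceAs (IsOpenImmersion (Scheme.LocalRepresentability.toGlued _ I))

variable (n q) in
/-- The cover by the charts. -/
noncomputable def cover : (Gr.{u} n q).OpenCover :=
  (Scheme.LocalRepresentability.glueData (F := ⟨functor.{u} n q, isSheaf_functor⟩)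
    (f := chartMap.{u} (n := n) (q := q)) fun J => isOpenImmersion_chartMap J).openCover

theorem exists_mem_range_inc (y : Gr.{u} n q) : ∃ (I : Idx.{u} n q) (x : chart I), inc I x = y :=
  ⟨(cover n q).idx y, (cover n q).covers y⟩

theorem homEquiv_inc {T : Scheme.{u}} {I : Idx.{u} n q} (z : T ⟶ chart I) :
    (representableBy.homEquiv (z ≫ inc I) : Elt n q T) = chartElt z := by
  haveI := isLocallySurjective_chartMap.{u} (n := n) (q := q)
  have h : (representableBy.homEquiv (inc I) : Elt n q (chart I)) = chartElt (𝟙 (chart I)) :=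
    Scheme.LocalRepresentability.yonedaGluedToSheaf_app_toGlued (F := ⟨functor.{u} n q, isSheaf_functor⟩)
      (f := chartMap.{u} (n := n) (q := q)) (fun J => isOpenImmersion_chartMap J) (i := I)
  rw [representableBy.homEquiv_comp]
  refine (congrArg ((functor.{u} n q).map z.op) h).trans ?_
  show (chartElt (𝟙 (chart I))).pull z = _
  rw [← chartElt_comp, Category.comp_id]

/-- The matrix of a chart point over a ring. -/
noncomputable def rmat {S : Type u} [CommRing S] (I : Idx.{u} n q) (a : Coord I → S) (j : Fin n) (k : Fin q) : S :=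
  open Classical in if h : j ∈ Set.range I.down.1 then (if I.down.1 k = j then 1 else 0) else a (⟨j, h⟩, k)

theorem rmat_self {S : Type u} [CommRing S] (I : Idx.{u} n q) (a : Coord I → S) (i k : Fin q) :
    rmat I a (I.down.1 i) k = if i = k then 1 else 0 := by
  classical
  rw [rmat, dif_pos ⟨i, rfl⟩]
  exact if_congr ⟨fun h => (I.down.2 h).symm, fun h => by rw [h]⟩ rfl rfl

theorem rmat_map {S T : Type u} [CommRing S] [CommRing T] (φ : S →+* T) (I : Idx.{u} n q) (a : Coord I → S)
    (j : Fin n) (k : Fin q) : rmat I (fun v => φ (a v)) j k = φ (rmat I a j k) := by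
  simp only [rmat]
  split_ifs <;> simp

/-- The coordinates of a point of a chart. -/
noncomputable def coords {S : CommRingCat.{u}} {I : Idx.{u} n q}
    (ψ : CommRingCat.of (MvPolynomial (Coord I) (ULift.{u} ℤ)) ⟶ S) (v : Coord I) : S :=
  ψ (MvPolynomial.X v)

theorem chartVal_SpecMap {S : CommRingCat.{u}} {I : Idx.{u} n q}
    (ψ : CommRingCat.of (MvPolynomial (Coord I) (ULift.{u} ℤ)) ⟶ S) (p : MvPolynomial (Coord I) (ULift.{u} ℤ)) :
    chartVal (Spec.map ψ) p = gm S (ψ p) :=
  gm_map ψ p

theorem cmat_gm {S : CommRingCat.{u}} {I : Idx.{u} n q} (a : Coord I → S) (j : Fin n) (k : Fin q) :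
    cmat (fun v => gm S (a v)) j k = gm S (rmat I a j k) := by
  simp only [cmat, rmat]
  split_ifs <;> simp

/-- Two chart points giving the same quotient differ by a matrix. -/
theorem exists_trans {S : CommRingCat.{u}} {I I' : Idx.{u} n q}
    (ψ : CommRingCat.of (MvPolynomial (Coord I) (ULift.{u} ℤ)) ⟶ S)
    (ψ' : CommRingCat.of (MvPolynomial (Coord I') (ULift.{u} ℤ)) ⟶ S)
    (h : Spec.map ψ ≫ inc I = Spec.map ψ' ≫ inc I') :
    ∃ M : Matrix (Fin q) (Fin q) S,
      ∀ j k, rmat I (coords ψ) j k = ∑ l, rmat I' (coords ψ') j l * M l k := by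
  have h1 := congrArg (fun g => (representableBy.homEquiv g : Elt n q (Spec S))) h
  replace h1 : chartElt (Spec.map ψ) = chartElt (Spec.map ψ') := (homEquiv_inc _).symm.trans (h1.trans (homEquiv_inc _))
  set D := ofMat (I := I) fun v => chartVal (Spec.map ψ) (MvPolynomial.X v)
  set D' := ofMat (I := I') fun v => chartVal (Spec.map ψ') (MvPolynomial.X v)
  have hk : D.ker = D'.ker := Elt.mk_eq_mk.1 h1
  obtain ⟨e, he⟩ := D'.exists_iso D hk.symm
  have hfr : IsFrame D.L D.t ⊤ I'.down.1 := D'.frame_of_iso e he (ofMat_frame _)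
  refine ⟨fun l k => rmat I (coords ψ) (I'.down.1 l) k, fun j k => (gm_bijective S).1 ?_⟩
  have hj : ∀ j, (ofMat_frame (I := I) fun v => chartVal (Spec.map ψ) (MvPolynomial.X v)).mat (le_refl ⊤) j =
      fun k => gm S (rmat I (coords ψ) j k) := fun j => by
    rw [mat_ofMat]
    funext k
    simp only [chartVal_SpecMap]
    exact cmat_gm _ j k
  have hj' : ∀ j, hfr.mat (le_refl ⊤) j = fun k => gm S (rmat I' (coords ψ') j k) := fun j => by
    rw [← Datum.mat_congr D' hk.symm (ofMat_frame _) hfr le_rfl j, mat_ofMat]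
    funext k
    simp only [chartVal_SpecMap]
    exact cmat_gm _ j k
  have h2 := hfr.mat_spec (le_refl ⊤) j
  have h3 : (ofMat_frame (I := I) fun v => chartVal (Spec.map ψ) (MvPolynomial.X v)).mat (le_refl ⊤) j =
      fun k => ∑ l, hfr.mat (le_refl ⊤) j l *
        (ofMat_frame (I := I) fun v => chartVal (Spec.map ψ) (MvPolynomial.X v)).mat (le_refl ⊤) (I'.down.1 l) k := by
    refine IsFrame.mat_eq _ _ j ?_
    refine Eq.trans ?_ h2
    simp only [Finset.sum_smul, mul_smul]
    rw [Finset.sum_comm]
    refine Finset.sum_congr rfl fun l _ => ?_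
    rw [← Finset.smul_sum, IsFrame.mat_spec]
  have h4 := congrFun h3 k
  simp only [hj, hj'] at h4
  rw [h4]
  simp

variable (m : ℕ) (σ : Fin (m + 1) ≃ Sub n q)

/-- The homogeneous coordinates of a chart point. -/
noncomputable def pvec {S : Type u} [CommRing S] (I : Idx.{u} n q) (a : Coord I → S) (l : Fin (m + 1)) : S :=
  minor (rmat I a) (subIdx (σ l))

include σ in
theorem exists_pvec_unit {S : Type u} [CommRing S] (I : Idx.{u} n q) (a : Coord I → S) :
    ∃ (l : Fin (m + 1)) (c : S), c * pvec m σ I a l = 1 := by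
  obtain ⟨s, e, he⟩ := exists_unit_minor (rmat I a) I.down.1 I.down.2
  refine ⟨σ.symm s, e, ?_⟩
  rw [pvec, Equiv.apply_symm_apply, ← he]
  exact minor_self _ _ (rmat_self I a)

/-- The Plücker map on a chart. -/
noncomputable def pchart (I : Idx.{u} n q) : chart I ⟶ CohB1.ProjSpace m (ULift.{u} ℤ) :=
  BrSev28.pt m MvPolynomial.C (exists_pvec_unit m σ I MvPolynomial.X).choose
    (fun l => (exists_pvec_unit m σ I (S := MvPolynomial (Coord I) (ULift.{u} ℤ)) MvPolynomial.X).choose_spec.choose *
      pvec m σ I MvPolynomial.X l)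
    (exists_pvec_unit m σ I (S := MvPolynomial (Coord I) (ULift.{u} ℤ)) MvPolynomial.X).choose_spec.choose_spec

theorem ringHom_ulift_int_ext {S : Type u} [CommRing S] (a b : ULift.{u} ℤ →+* S) : a = b := by
  have h : a.comp (ULift.ringEquiv (R := ℤ)).symm.toRingHom = b.comp (ULift.ringEquiv (R := ℤ)).symm.toRingHom :=
    RingHom.ext_int _ _
  exact RingHom.ext fun ⟨r⟩ => RingHom.congr_fun h r

theorem SpecMap_pchart {S : CommRingCat.{u}} {I : Idx.{u} n q}
    (ψ : CommRingCat.of (MvPolynomial (Coord I) (ULift.{u} ℤ)) ⟶ S) (q₀ : ULift.{u} ℤ →+* S)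
    (l : Fin (m + 1)) (v : Fin (m + 1) → S) (hv : v l = 1) (c : S)
    (hc : ∀ l', v l' = c * pvec m σ I (coords ψ) l') :
    Spec.map ψ ≫ pchart m σ I = BrSev28.pt m q₀ l v hv := by
  refine (BrSev28.pt_comp m ψ.hom _ _ _ _).trans ?_
  set l₀ := (exists_pvec_unit m σ I (S := MvPolynomial (Coord I) (ULift.{u} ℤ)) MvPolynomial.X).choose
  set c₀ := (exists_pvec_unit m σ I (S := MvPolynomial (Coord I) (ULift.{u} ℤ)) MvPolynomial.X).choose_spec.choose
  have hp : ∀ l', ψ.hom (pvec m σ I MvPolynomial.X l') = pvec m σ I (coords ψ) l' := fun l' => by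
    simp only [pvec]
    rw [← minor_map]
    congr 1
    funext j k
    exact (rmat_map ψ.hom I MvPolynomial.X j k).symm
  have hc0 : ψ.hom c₀ * pvec m σ I (coords ψ) l₀ = 1 := by
    rw [← hp, ← map_mul, (exists_pvec_unit m σ I (S := MvPolynomial (Coord I) (ULift.{u} ℤ)) MvPolynomial.X).choose_spec.choose_spec,
      map_one]
  have hq : ψ.hom.comp MvPolynomial.C = q₀ := ringHom_ulift_int_ext _ _
  have he : ∀ l', v l' = (c * pvec m σ I (coords ψ) l₀) * (ψ.hom c₀ * pvec m σ I (coords ψ) l') := fun l' => by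
    rw [hc]
    linear_combination (-(c * pvec m σ I (coords ψ) l')) * hc0
  rw [BrSev28.pt_change m (ψ.hom.comp MvPolynomial.C) l₀ l (fun l' => ψ.hom (c₀ * pvec m σ I MvPolynomial.X l'))
    _ (c * pvec m σ I (coords ψ) l₀) (by rw [map_mul, hp, ← he]; exact hv)]
  congr 1
  funext l'
  rw [map_mul, hp, ← he]

/-- The Plücker morphism. -/
noncomputable def plucker : Gr.{u} n q ⟶ CohB1.ProjSpace m (ULift.{u} ℤ) :=
  (cover n q).glueMorphisms (fun I => pchart m σ I) fun I I' => by
    let P := pullback ((cover n q).f I) ((cover n q).f I')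
    refine P.affineOpenCover.openCover.hom_ext _ _ fun k => ?_
    let j : Spec (P.affineOpenCover.X k) ⟶ P := P.affineOpenCover.f k
    obtain ⟨ψ, hψ⟩ := Spec.map_surjective (j ≫ (pullback.fst _ _ : P ⟶ chart I))
    obtain ⟨ψ', hψ'⟩ := Spec.map_surjective (j ≫ (pullback.snd _ _ : P ⟶ chart I'))
    show j ≫ (pullback.fst _ _ : P ⟶ chart I) ≫ pchart m σ I = j ≫ (pullback.snd _ _ : P ⟶ chart I') ≫ pchart m σ I'
    refine (Category.assoc _ _ _).symm.trans ((congrArg (· ≫ pchart m σ I) hψ.symm).trans (Eq.trans ?_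
      ((congrArg (· ≫ pchart m σ I') hψ').trans (Category.assoc _ _ _))))
    have h : Spec.map ψ ≫ inc I = Spec.map ψ' ≫ inc I' := by
      rw [hψ, hψ', Category.assoc, Category.assoc]
      exact congrArg (j ≫ ·) pullback.condition
    obtain ⟨M, hM⟩ := exists_trans ψ ψ' h
    obtain ⟨l, c, hc⟩ := exists_pvec_unit m σ I (coords ψ)
    have hp : ∀ l', pvec m σ I (coords ψ) l' = pvec m σ I' (coords ψ') l' * M.det := fun l' => by
      rw [pvec, pvec, ← minor_mul]
      congr 1
      funext a b
      exact hM a b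
    let q₀ : ULift.{u} ℤ →+* P.affineOpenCover.X k :=
      (Int.castRingHom _).comp (ULift.ringEquiv (R := ℤ)).toRingHom
    rw [SpecMap_pchart m σ ψ q₀ l (fun l' => c * pvec m σ I (coords ψ) l') hc c fun _ => rfl,
      SpecMap_pchart m σ ψ' q₀ l (fun l' => c * pvec m σ I (coords ψ) l') hc (c * M.det) fun l' => by
        rw [hp]; ring]

theorem inc_plucker (I : Idx.{u} n q) : inc I ≫ plucker m σ = pchart m σ I :=
  (cover n q).ι_glueMorphisms _ _ I

/-- The chart of a subset. -/
noncomputable def subChart (l : Fin (m + 1)) : Idx.{u} n q := ⟨⟨subIdx (σ l), subIdx_injective _⟩⟩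

theorem isPullback_plucker (l : Fin (m + 1)) :
    ∃ (ψ : CommRingCat.of (Away (CohB1.polyGrading m (ULift.{u} ℤ)) (X l)) ⟶
        CommRingCat.of (MvPolynomial (Coord (subChart.{u} m σ l)) (ULift.{u} ℤ))),
      Function.Surjective ψ ∧
      IsPullback (Spec.map ψ) (inc (subChart.{u} m σ l))
        (Proj.awayι (CohB1.polyGrading m (ULift.{u} ℤ)) (X l) (X_mem_polyGrading m _ l) one_pos) (plucker m σ) := by
  let I : Idx.{u} n q := subChart.{u} m σ l
  let v : Fin (m + 1) → MvPolynomial (Coord I) (ULift.{u} ℤ) := pvec m σ I MvPolynomial.X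
  have hv : v l = 1 := minor_self _ _ (rmat_self I MvPolynomial.X)
  obtain ⟨h₀, h₁⟩ := (BrSev28.exists_away_hom m (MvPolynomial.C (σ := Coord I)) l v hv).choose_spec
  set a := (BrSev28.exists_away_hom m (MvPolynomial.C (σ := Coord I)) l v hv).choose
  let ψ : CommRingCat.of (Away (CohB1.polyGrading m (ULift.{u} ℤ)) (X l)) ⟶
      CommRingCat.of (MvPolynomial (Coord I) (ULift.{u} ℤ)) := CommRingCat.ofHom a
  refine ⟨ψ, ?_, ?_⟩
  · intro p
    induction p using MvPolynomial.induction_on with
    | C r => exact ⟨_, RingHom.congr_fun h₀ r⟩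
    | add p q hp hq =>
      obtain ⟨x, rfl⟩ := hp
      obtain ⟨y, rfl⟩ := hq
      exact ⟨x + y, map_add _ _ _⟩
    | mul_X p w hp =>
      obtain ⟨x, rfl⟩ := hp
      have hsurj : ∃ y, a y = MvPolynomial.X w := by
        obtain ⟨s, e, he⟩ := exists_unit_minor (rmat I (MvPolynomial.X : Coord I → MvPolynomial (Coord I) (ULift.{u} ℤ)))
          (Function.update I.down.1 w.2 w.1.1) (injective_update I.down.2 w.1.2 w.2)
        rw [minor_update _ _ (rmat_self I _)] at he
        have h2 : rmat I (MvPolynomial.X : Coord I → MvPolynomial (Coord I) (ULift.{u} ℤ)) w.1.1 w.2 =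
            MvPolynomial.X w := by
          rw [rmat]
          exact dif_neg w.1.2
        rw [h2] at he
        haveI : _root_.IsReduced (ULift.{u} ℤ) :=
          isReduced_of_injective (ULift.ringEquiv (R := ℤ)).toRingHom (ULift.ringEquiv (R := ℤ)).injective
        obtain ⟨r, hr, hre⟩ := MvPolynomial.isUnit_iff_eq_C_of_isReduced.1 e.isUnit
        refine ⟨toAway m _ (X l) r * BrSev28.coord m l (σ.symm s), ?_⟩
        rw [map_mul, h₁, show a (toAway m _ (X l) r) = MvPolynomial.C r from RingHom.congr_fun h₀ r, ← hre, he]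
        simp only [v, pvec, Equiv.apply_symm_apply]
      obtain ⟨y, hy⟩ := hsurj
      exact ⟨x * y, (map_mul _ _ _).trans (congrArg _ hy)⟩
  · have hcomm : Spec.map ψ ≫ Proj.awayι (CohB1.polyGrading m (ULift.{u} ℤ)) (X l) (X_mem_polyGrading m _ l) one_pos =
        inc I ≫ plucker m σ := by
      rw [inc_plucker]
      have := SpecMap_pchart m σ (𝟙 (CommRingCat.of (MvPolynomial (Coord I) (ULift.{u} ℤ)))) MvPolynomial.C l v hv 1
        fun l' => (one_mul _).symm
      rw [Spec.map_id, Category.id_comp] at this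
      exact this.symm
    haveI : IsOpenImmersion (inc (subChart.{u} m σ l)) := inferInstanceAs (IsOpenImmersion (inc I))
    refine IsOpenImmersion.isPullback _ _ _ _ hcomm.symm ?_
    refine (Opens.ext (Set.Subset.antisymm ?_ ?_)).symm
    · rintro _ ⟨x, rfl⟩
      exact ⟨Spec.map ψ x, congrArg (fun g : chart I ⟶ CohB1.ProjSpace m (ULift.{u} ℤ) => g x) hcomm⟩
    · intro y hy
      obtain ⟨I', x, rfl⟩ := exists_mem_range_inc y
      let v' : Fin (m + 1) → MvPolynomial (Coord I') (ULift.{u} ℤ) := pvec m σ I' MvPolynomial.X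
      obtain ⟨l₀, c₀, hc₀⟩ := exists_pvec_unit m σ I' (MvPolynomial.X : Coord I' → MvPolynomial (Coord I') (ULift.{u} ℤ))
      have e := SpecMap_pchart m σ (𝟙 (CommRingCat.of (MvPolynomial (Coord I') (ULift.{u} ℤ)))) MvPolynomial.C l₀
        (fun l' => c₀ * v' l') hc₀ c₀ fun l' => rfl
      rw [Spec.map_id, Category.id_comp] at e
      have hy' : x ∈ PrimeSpectrum.basicOpen (c₀ * v' l) := by
        obtain ⟨h₀', h₁'⟩ :=
          (BrSev28.exists_away_hom m (MvPolynomial.C (σ := Coord I')) l₀ (fun l' => c₀ * v' l') hc₀).choose_spec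
        set a' := (BrSev28.exists_away_hom m (MvPolynomial.C (σ := Coord I')) l₀ (fun l' => c₀ * v' l') hc₀).choose
        have h2 : pchart m σ I' x ∈ Proj.basicOpen (CohB1.polyGrading m (ULift.{u} ℤ)) (X l) := by
          rw [← Proj.opensRange_awayι (CohB1.polyGrading m (ULift.{u} ℤ)) (X l) (X_mem_polyGrading m _ l) one_pos,
            ← inc_plucker]
          exact hy
        rw [e] at h2
        have h3 : Spec.map (CommRingCat.ofHom a') x ∈
            (Proj.awayι (CohB1.polyGrading m (ULift.{u} ℤ)) (X l₀) (X_mem_polyGrading m _ l₀) one_pos) ⁻¹ᵁ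
              Proj.basicOpen (CohB1.polyGrading m (ULift.{u} ℤ)) (X l) := h2
        rw [Proj.awayι_preimage_basicOpen _ (X_mem_polyGrading m _ l₀) one_pos (X_mem_polyGrading m _ l) one_pos] at h3
        have h4 : Away.isLocalizationElem (X_mem_polyGrading m (ULift.{u} ℤ) l₀) (X_mem_polyGrading m _ l) =
            BrSev28.coord m l₀ l := by
          apply HomogeneousLocalization.val_injective
          simp [Away.isLocalizationElem, BrSev28.coord, Away.val_mk, HomogeneousLocalization.val_mk]
        rw [h4] at h3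
        have h5 : (PrimeSpectrum.comap a' x) ∈ PrimeSpectrum.basicOpen (BrSev28.coord m l₀ l) := h3
        rw [PrimeSpectrum.mem_basicOpen] at h5
        exact fun h => h5 (show a' (BrSev28.coord m l₀ l) ∈ (show PrimeSpectrum _ from x).asIdeal by rw [h₁']; exact h)
      -- near `x` the indices of the subset form a frame
      let δ : MvPolynomial (Coord I') (ULift.{u} ℤ) := v' l
      have hxδ : x ∈ PrimeSpectrum.basicOpen δ := by
        exact fun h => hy' (Ideal.mul_mem_left _ c₀ h)
      let j := Spec.map (CommRingCat.ofHom (algebraMap (MvPolynomial (Coord I') (ULift.{u} ℤ)) (Localization.Away δ)))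
      obtain ⟨w, hw⟩ : x ∈ Set.range j := by
        show x ∈ Set.range (PrimeSpectrum.comap (algebraMap (MvPolynomial (Coord I') (ULift.{u} ℤ)) (Localization.Away δ)))
        rw [PrimeSpectrum.localization_away_comap_range (Localization.Away δ) δ]
        exact hxδ
      let D := ofMat (I := I') fun u => chartVal j (MvPolynomial.X u)
      have hfr : IsFrame D.L D.t ⊤ I.down.1 := by
        refine (ofMat_frame _).of_isUnit_det I.down.1 le_rfl ?_
        have e1 : ((ofMat_frame (I := I') fun u => chartVal j (MvPolynomial.X u)).trans I.down.1 (le_refl ⊤)) =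
            fun i k => gm (CommRingCat.of (Localization.Away δ)) (algebraMap (MvPolynomial (Coord I') (ULift.{u} ℤ)) (Localization.Away δ)
              (rmat I' MvPolynomial.X (I.down.1 i) k)) := by
          funext i k
          show IsFrame.mat _ _ _ _ = _
          rw [mat_ofMat]
          have : ∀ u, chartVal j (MvPolynomial.X u) =
              gm (CommRingCat.of (Localization.Away δ)) (algebraMap (MvPolynomial (Coord I') (ULift.{u} ℤ)) (Localization.Away δ)
                (MvPolynomial.X u)) := fun u => chartVal_SpecMap _ _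
          simp only [this]
          rw [cmat_gm, rmat_map]
        rw [e1]
        have e2 := RingHom.map_det ((gm (CommRingCat.of (Localization.Away δ))).comp (algebraMap _ (Localization.Away δ)))
          (fun i k => rmat I' (MvPolynomial.X : Coord I' → MvPolynomial (Coord I') (ULift.{u} ℤ)) (I.down.1 i) k)
        refine Eq.mp (congrArg IsUnit e2) ?_
        exact (IsLocalization.Away.algebraMap_isUnit (S := Localization.Away δ) δ).map (gm (CommRingCat.of (Localization.Away δ)))
      obtain ⟨z, hz⟩ := exists_chart_of_frame _ hfr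
      have hzz : z ≫ inc I = j ≫ inc I' := by
        refine representableBy.homEquiv.injective ?_
        show (representableBy.homEquiv _ : Elt n q _) = representableBy.homEquiv _
        rw [homEquiv_inc, homEquiv_inc, hz]
        rfl
      exact ⟨z w, by rw [← hw]; exact congrArg (fun g => g w) hzz⟩

theorem isClosedImmersion_plucker : IsClosedImmersion (plucker.{u} m σ) := by
  let ι := fun l => Proj.awayι (CohB1.polyGrading m (ULift.{u} ℤ)) (X l) (X_mem_polyGrading m _ l) one_pos
  let 𝒰 : (CohB1.ProjSpace m (ULift.{u} ℤ)).OpenCover :=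
    { I₀ := Fin (m + 1)
      X := fun l => Spec (CommRingCat.of (Away (CohB1.polyGrading m (ULift.{u} ℤ)) (X l)))
      f := ι
      mem₀ := by
        rw [Scheme.presieve₀_mem_precoverage_iff]
        refine ⟨fun z => ?_, fun l => inferInstanceAs (IsOpenImmersion (Proj.awayι _ _ _ _))⟩
        obtain ⟨i, hi⟩ := TopologicalSpace.Opens.mem_iSup.mp
          ((iSup_basicOpen_X m (ULift.{u} ℤ)).ge (TopologicalSpace.Opens.mem_top z))
        have e := Proj.opensRange_awayι (CohB1.polyGrading m (ULift.{u} ℤ)) (X i) (X_mem_polyGrading m _ i) one_pos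
        exact ⟨i, (show z ∈ (Proj.awayι (CohB1.polyGrading m (ULift.{u} ℤ)) (X i) (X_mem_polyGrading m _ i) one_pos).opensRange from e ▸ hi)⟩ }
  rw [IsZariskiLocalAtTarget.iff_of_openCover (P := @IsClosedImmersion) 𝒰]
  intro l
  obtain ⟨ψ, hψ, hsq⟩ := isPullback_plucker.{u} m σ l
  show IsClosedImmersion (pullback.snd (plucker m σ) (ι l))
  haveI : IsClosedImmersion (Spec.map ψ) := IsClosedImmersion.spec_of_surjective ψ hψ
  have h := hsq.flip.isoPullback_inv_snd
  exact cast (congrArg (fun g => IsClosedImmersion g) h)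
    (inferInstance : IsClosedImmersion (hsq.flip.isoPullback.inv ≫ Spec.map ψ))

end Groth.Agent.GrassLib
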