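import Groth.Agent.GrassLib.Modules
import Groth.Agent.Props12.TildeFin

/-!
# Ranks at primes from bases on basic opens
-/

set_option autoImplicit false
set_option linter.unusedSectionVars false
set_option backward.isDefEq.respectTransparency.types false
set_option maxHeartbeats 1000000

universe u

open CategoryTheory CategoryTheory.Limits AlgebraicGeometry Opposite TopologicalSpace
open Groth.Agent.Coherent Groth.Agent.PicLib
open scoped TensorProduct

namespace Groth.Agent.GrassLib

variable {A : CommRingCat.{u}}

/-- Global sections as a module over the ring. -/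
noncomputable abbrev topMod (N : (Spec A).Modules) : ModuleCat A :=
  (modulesSpecToSheaf.obj N).obj.obj (op (⊤ : (Spec A).Opens))

theorem topMod_smul (N : (Spec A).Modules) (a : A) (x : topMod N) :
    a • x = (show topMod N from (show Γ(Spec A, ⊤) from (Scheme.ΓSpecIso A).inv a) • (show Γ(N, ⊤) from x)) := by
  show ((Spec A).presheaf.map (𝟙 (op (⊤ : (Spec A).Opens))) ((Scheme.ΓSpecIso A).inv a)) • (show Γ(N, ⊤) from x) = _
  exact congrArg (· • (show Γ(N, ⊤) from x)) (ConcreteCategory.congr_hom ((Spec A).presheaf.map_id (op ⊤)) _)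

/-- Sections on a basic open as a module over the ring. -/
noncomputable abbrev basicMod (N : (Spec A).Modules) (f : A) : ModuleCat A :=
  (modulesSpecToSheaf.obj N).obj.obj (op (specBasicOpen f))

theorem basicMod_smul (N : (Spec A).Modules) (f : A) (a : A) (x : basicMod N f) :
    a • x = (show basicMod N f from
      (show Γ(Spec A, specBasicOpen f) from algebraMap A ((Spec.structureSheaf A).obj.obj (op (specBasicOpen f))) a) •
        (show Γ(N, specBasicOpen f) from x)) := rfl

variable {N : (Spec A).Modules} {I : Type u} [Fintype I] {f : A}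

/-- Functions on a basic open as a localisation. -/
noncomputable def awayEquiv (f : A) : Γ(Spec A, specBasicOpen f) ≃+* Localization.Away f :=
  (IsLocalization.algEquiv (.powers f) ((Spec.structureSheaf A).obj.obj (op (specBasicOpen f)))
    (Localization.Away f)).toRingEquiv

theorem awayEquiv_algebraMap (f a : A) :
    awayEquiv f (show Γ(Spec A, specBasicOpen f) from
      algebraMap A ((Spec.structureSheaf A).obj.obj (op (specBasicOpen f))) a) =
      algebraMap A (Localization.Away f) a :=
  (IsLocalization.algEquiv (.powers f) ((Spec.structureSheaf A).obj.obj (op (specBasicOpen f)))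
    (Localization.Away f)).commutes a

theorem exists_coordEquiv {e : I → Γ(N, specBasicOpen f)} (he : IsBasisOn N (specBasicOpen f) e) :
    Nonempty (basicMod N f ≃ₗ[A] (I → Localization.Away f)) := by
  let x' : basicMod N f → Γ(N, specBasicOpen f) := fun x => x
  refine ⟨LinearEquiv.ofBijective
    ({ toFun := fun x i => awayEquiv f (he.coef le_rfl (x' x) i)
       map_add' := fun x y => funext fun i => ?_
       map_smul' := fun a x => funext fun i => ?_ } : basicMod N f →ₗ[A] (I → Localization.Away f)) ⟨?_, ?_⟩⟩
  · show awayEquiv f (he.coef le_rfl (x' x + x' y) i) = _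
    rw [he.coef_add, Pi.add_apply, map_add]
    rfl
  · show awayEquiv f (he.coef le_rfl (x' (a • x)) i) = a • _
    rw [show x' (a • x) = _ from basicMod_smul N f a x, he.coef_smul, Algebra.smul_def, ← awayEquiv_algebraMap]
    exact map_mul _ _ _
  · intro x y h
    have h1 : he.coef le_rfl (x' x) = he.coef le_rfl (x' y) := funext fun i => (awayEquiv f).injective (congrFun h i)
    exact ((he.coef_spec le_rfl (x' x)).symm.trans (by rw [h1])).trans (he.coef_spec le_rfl (x' y))
  · intro v
    refine ⟨(show Γ(N, specBasicOpen f) from ∑ i, (awayEquiv f).symm (v i) • resM N le_rfl (e i)), funext fun i => ?_⟩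
    show awayEquiv f (he.coef le_rfl _ i) = v i
    rw [he.coef_eq le_rfl (c := fun i => (awayEquiv f).symm (v i)) rfl]
    exact (awayEquiv f).apply_symm_apply _

theorem rankAtStalk_of_localized {R M P : Type u} [CommRing R] [AddCommGroup M] [Module R M] [Module.Finite R M]
    [Module.Flat R M] [AddCommGroup P]
    [Module R P] {κ : Type u} [Fintype κ] (f : R) (r : M →ₗ[R] P) (hr : IsLocalizedModule (.powers f) r)
    (g : P ≃ₗ[R] (κ → Localization.Away f)) (p : PrimeSpectrum R) (hpf : f ∉ p.asIdeal) :
    Module.rankAtStalk (R := R) M p = Fintype.card κ := by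
  let Af := Localization.Away f
  haveI : IsLocalizedModule (.powers f) (g.toLinearMap ∘ₗ r) := IsLocalizedModule.of_linearEquiv _ _ g
  have hbc : IsBaseChange Af (g.toLinearMap ∘ₗ r) := IsLocalizedModule.isBaseChange (.powers f) Af _
  have hd : Disjoint (Submonoid.powers f : Set R) (p.asIdeal : Set R) := by
    rw [Set.disjoint_left]
    rintro _ ⟨m, rfl⟩ hm
    exact hpf (p.2.mem_of_pow_mem m hm)
  let p' : PrimeSpectrum Af := ⟨p.asIdeal.map (algebraMap R Af),
    IsLocalization.isPrime_of_isPrime_disjoint (.powers f) Af _ p.2 hd⟩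
  have hp' : PrimeSpectrum.comap (algebraMap R Af) p' = p := PrimeSpectrum.ext
    (IsLocalization.under_map_of_isPrime_disjoint (.powers f) Af p.2 hd)
  have hfree : Module.Free Af (Af ⊗[R] M) := Module.Free.of_equiv hbc.equiv.symm
  haveI : Module.Finite Af (Af ⊗[R] M) := Module.Finite.equiv hbc.equiv.symm
  haveI : Nontrivial Af := ⟨⟨0, 1, fun h => p'.2.ne_top ((Ideal.eq_top_iff_one _).2 (h ▸ p'.asIdeal.zero_mem))⟩⟩
  rw [← hp', ← Module.rankAtStalk_baseChange, Module.rankAtStalk_eq_of_equiv hbc.equiv,
    Module.rankAtStalk_eq_finrank_of_free]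
  show Module.finrank (Localization.Away f) (κ → Localization.Away f) = Fintype.card κ
  exact Module.finrank_fintype_fun_eq_card _

/-- A basis on an open around a prime gives the rank at the prime. -/
theorem rankAtStalk_of_isBasisOn [Coh.IsQCoh N] [Module.Finite A (topMod N)] [Module.Flat A (topMod N)]
    {U : (Spec A).Opens} {e : I → Γ(N, U)} (he : IsBasisOn N U e)
    (p : Spec A) (hp : p ∈ U) : Module.rankAtStalk (R := A) (topMod N) p = Fintype.card I := by
  classical
  obtain ⟨_, ⟨f, rfl⟩, hpf, hfU⟩ := PrimeSpectrum.isTopologicalBasis_basic_opens.exists_subset_of_mem_open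
    (show p ∈ (U.1 : Set (PrimeSpectrum A)) from hp) U.2
  obtain ⟨g⟩ := exists_coordEquiv (FinCovLib29.isBasisOn_restrict he (show specBasicOpen f ≤ U from hfU))
  exact rankAtStalk_of_localized f _ (spec_isLocalizedModule N f) g p hpf

end Groth.Agent.GrassLib
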