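import Groth.Agent.GrassLib.Comap
import Groth.Agent.GrassLib.OverPoints
import Groth.Agent.CohExch.LocalSub

/-!
# The Grassmannian of a quotient is a closed subscheme
-/

set_option autoImplicit false
set_option linter.unusedSectionVars false
set_option backward.isDefEq.respectTransparency.types false
set_option maxHeartbeats 1000000

universe u

open CategoryTheory CategoryTheory.Limits AlgebraicGeometry Opposite
open scoped TensorProduct

namespace Groth.Agent.GrassLib

variable {R : Type u} [CommRing R] {M₁ M₂ : Type u} [AddCommGroup M₁] [Module R M₁] [AddCommGroup M₂] [Module R M₂]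
  (v : M₁ →ₗ[R] M₂) (hv : Function.Surjective v) {k : ℕ}

/-- A section killed by pulling back along an open immersion vanishes on its range. -/
theorem res_eq_zero_of_appTop {T U : Scheme.{u}} (f : U ⟶ T) [IsOpenImmersion f] (W : T.Opens) (hW : W ≤ f.opensRange)
    (s : Γ(T, ⊤)) (h : f.appTop s = 0) : T.presheaf.map (homOfLE (le_top : W ≤ ⊤)).op s = 0 := by
  haveI : IsIso (f.app W) := f.isIso_app _ hW
  refine (ConcreteCategory.bijective_of_isIso (f.app W)).1 ?_
  refine Eq.trans ?_ (map_zero _).symm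
  refine (ConcreteCategory.congr_hom (f.naturality (homOfLE (le_top : W ≤ ⊤)).op) s).trans ?_
  rw [CommRingCat.comp_apply]
  erw [h]
  exact map_zero _

/-- The obstruction ideal of a quotient of `A ⊗ M₁` to be one of `A ⊗ M₂`. -/
noncomputable def obst {A : Type u} [CommRing A] [Algebra R A] (N : Module.Grassmannian A (A ⊗[R] M₁) k) : Ideal A :=
  Ideal.span {a | ∃ (m : M₁) (f : ((A ⊗[R] M₁) ⧸ N.toSubmodule) →ₗ[A] A), v m = 0 ∧ f (N.toSubmodule.mkQ (1 ⊗ₜ m)) = a}

include hv in
theorem ker_le_map_iff {A B : Type u} [CommRing A] [Algebra R A] [CommRing B] [Algebra R B] (φ : A →ₐ[R] B)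
    (N : Module.Grassmannian A (A ⊗[R] M₁) k) :
    LinearMap.ker (v.baseChange B) ≤ (Module.Grassmannian.map φ N).toSubmodule ↔ ∀ a ∈ obst v N, φ a = 0 := by
  letI : Algebra A B := φ.toAlgebra
  letI : IsScalarTower R A B := IsScalarTower.of_algebraMap_eq' φ.comp_algebraMap.symm
  let P := (A ⊗[R] M₁) ⧸ N.toSubmodule
  let z : M₁ → P := fun m => N.toSubmodule.mkQ (1 ⊗ₜ m)
  -- membership in terms of the tensor product
  have hmem : ∀ m : M₁, ((1 : B) ⊗ₜ[R] m) ∈ (Module.Grassmannian.map φ N).toSubmodule ↔ (1 : B) ⊗ₜ[A] z m = 0 := by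
    intro m
    rw [Module.Grassmannian.map_toSubmodule, LinearMap.mem_ker]
    simp [Module.Grassmannian.baseChangeMkQ, z]
  have hspan : LinearMap.ker (v.baseChange B) ≤ (Module.Grassmannian.map φ N).toSubmodule ↔
      ∀ m, v m = 0 → (1 : B) ⊗ₜ[A] z m = 0 := by
    refine ⟨fun h m hm => (hmem m).1 (h (by simp [hm])), fun h x hx => ?_⟩
    have hw : ∀ w : B ⊗[R] LinearMap.ker v,
        (LinearMap.ker v).subtype.lTensor B w ∈ (Module.Grassmannian.map φ N).toSubmodule := by
      intro w
      induction w using TensorProduct.induction_on with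
      | zero => simp
      | tmul b m =>
        rw [LinearMap.lTensor_tmul, show b ⊗ₜ[R] ((LinearMap.ker v).subtype m) = b • ((1 : B) ⊗ₜ[R] (m : M₁)) by
          rw [TensorProduct.smul_tmul', smul_eq_mul, mul_one]; rfl]
        exact Submodule.smul_mem _ b ((hmem m).2 (h m m.2))
      | add x y hx hy =>
        rw [map_add]
        exact add_mem hx hy
    obtain ⟨w, rfl⟩ := ((lTensor_exact B (LinearMap.exact_subtype_ker_map v) hv) x).1 hx
    exact hw w
  rw [hspan]
  constructor
  · intro h a ha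
    refine Submodule.span_induction (fun a ha => ?_) (map_zero φ) (fun a b _ _ ha hb => by rw [map_add, ha, hb, add_zero])
      (fun c a _ ha => by rw [smul_eq_mul, map_mul, ha, mul_zero]) ha
    obtain ⟨m, f, hm, rfl⟩ := ha
    have h1 := congrArg (fun t => Algebra.TensorProduct.rid A B B (f.baseChange B t)) (h m hm)
    simp only [LinearMap.baseChange_tmul, map_zero, Algebra.TensorProduct.rid_tmul] at h1
    simpa [Algebra.smul_def] using! h1
  · intro h m hm
    obtain ⟨r, π, hπ⟩ := Module.Finite.exists_fin' A P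
    obtain ⟨s, hs⟩ := Module.projective_lifting_property π LinearMap.id hπ
    have h1 : z m = ∑ i, s (z m) i • π (Pi.single i 1) := by
      conv_lhs => rw [show z m = π (s (z m)) from (LinearMap.congr_fun hs (z m)).symm, pi_eq_sum_univ' (s (z m)), map_sum]
      exact Finset.sum_congr rfl fun i _ => map_smul _ _ _
    rw [h1, TensorProduct.tmul_sum]
    refine Finset.sum_eq_zero fun i _ => ?_
    have h2 : φ (s (z m) i) = 0 := h _ (Ideal.subset_span ⟨m, (LinearMap.proj i).comp s, hm, rfl⟩)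
    rw [← TensorProduct.smul_tmul, Algebra.smul_def, show algebraMap A B (s (z m) i) = 0 from h2, zero_mul,
      TensorProduct.zero_tmul]

variable {X₁ : Over (Spec (CommRingCat.of R))}
  (e₁ : ∀ A : CommAlgCat.{u} R, (pt A ⟶ X₁) ≃ (Module.Grassmannian.functor (R := R) (M := M₁) k).obj A)
  (he₁ : ∀ (A B : CommAlgCat.{u} R) (φ : A ⟶ B) (g : pt A ⟶ X₁) (g' : pt B ⟶ X₁),
    g'.left = Spec.map (CommRingCat.ofHom φ.hom.toRingHom) ≫ g.left →
      e₁ B g' = (Module.Grassmannian.functor (R := R) (M := M₁) k).map φ (e₁ A g))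

/-- The points coming from `M₂`. -/
def Good (T : Scheme.{u}) (x : T ⟶ X₁.left) : Prop :=
  ∀ (A : CommAlgCat.{u} R) (p : pt A ⟶ X₁) (b : (pt A).left ⟶ T), b ≫ x = p.left →
    LinearMap.ker (v.baseChange A) ≤ (e₁ A p).toSubmodule

include he₁ hv in
theorem obst_iff {A : CommAlgCat.{u} R} (g : pt A ⟶ X₁) (T : Scheme.{u}) (y : T ⟶ (pt A).left) :
    Good v e₁ T (y ≫ g.left) ↔
      ∀ a ∈ obst v (e₁ A g), y.appTop ((Scheme.ΓSpecIso (CommRingCat.of A)).inv a) = 0 := by
  have key : ∀ (B : CommAlgCat.{u} R) (p : pt B ⟶ X₁) (b : (pt B).left ⟶ T), b ≫ y ≫ g.left = p.left →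
      (LinearMap.ker (v.baseChange B) ≤ (e₁ B p).toSubmodule ↔
        ∀ a ∈ obst v (e₁ A g), (b ≫ y).appTop ((Scheme.ΓSpecIso (CommRingCat.of A)).inv a) = 0) := by
    intro B p b hb
    obtain ⟨ψ, hψ⟩ := Spec.map_surjective (b ≫ y)
    have hc : CommRingCat.ofHom (algebraMap R A) ≫ ψ = CommRingCat.ofHom (algebraMap R B) := by
      refine Spec.map_injective ?_
      rw [Spec.map_comp, hψ]
      refine Eq.trans ?_ (Over.w p)
      rw [← hb]
      simp only [Category.assoc]
      exact congrArg (fun r => b ≫ y ≫ r) (Over.w g).symm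
    let φ : A ⟶ B := CommAlgCat.ofHom { ψ.hom with commutes' := fun r => ConcreteCategory.congr_hom hc r }
    have e : e₁ B p = Module.Grassmannian.map φ.hom (e₁ A g) :=
      he₁ A B φ g p (by rw [← hb, ← Category.assoc, ← hψ]; rfl)
    rw [e, ker_le_map_iff v hv φ.hom]
    refine forall₂_congr fun a _ => ?_
    rw [← hψ, ← ConcreteCategory.comp_apply, ← Scheme.ΓSpecIso_inv_naturality, ConcreteCategory.comp_apply,
      map_eq_zero_iff _ (ConcreteCategory.bijective_of_isIso (Scheme.ΓSpecIso (CommRingCat.of B)).inv).1]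
    rfl
  constructor
  · intro h a ha
    refine TopCat.Sheaf.eq_of_locally_eq' T.sheaf (fun i => (T.affineCover.f i).opensRange) ⊤
      (fun i => homOfLE le_top) (fun x _ => ?_) _ _ fun i => ?_
    · exact TopologicalSpace.Opens.mem_iSup.2 ⟨T.affineCover.idx x, T.affineCover.covers x⟩
    obtain ⟨B, θ, p, hp⟩ := exists_lift_affine (X := X₁) (T.affineCover.f i ≫ y ≫ g.left)
    have h1 := (key B p (θ.inv ≫ T.affineCover.f i) (by rw [Category.assoc, ← hp, θ.inv_hom_id_assoc])).1
      (h B p (θ.inv ≫ T.affineCover.f i) (by rw [Category.assoc, ← hp, θ.inv_hom_id_assoc])) a ha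
    rw [Category.assoc, Scheme.Hom.comp_appTop, CommRingCat.comp_apply] at h1
    have h2 := (congrArg (fun t => θ.hom.appTop t) h1).trans (map_zero θ.hom.appTop.hom)
    simp only [← CommRingCat.comp_apply, ← Scheme.Hom.comp_appTop, θ.hom_inv_id, Category.assoc,
      θ.hom_inv_id_assoc] at h2
    rw [Scheme.Hom.comp_appTop, CommRingCat.comp_apply] at h2
    refine Eq.trans ?_ (map_zero _).symm
    exact res_eq_zero_of_appTop (T.affineCover.f i) _ le_rfl _ h2
  · intro h B p b hb
    refine (key B p b hb).2 fun a ha => ?_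
    rw [Scheme.Hom.comp_appTop, CommRingCat.comp_apply, h a ha, map_zero]

include he₁ hv in
/-- The points coming from `M₂` form a closed subscheme. -/
theorem exists_closed_sub :
    ∃ (Z : Over (Spec (CommRingCat.of R))) (j : Z ⟶ X₁), IsClosedImmersion j.left ∧
      ∀ (A : CommAlgCat.{u} R) (p : pt A ⟶ X₁),
        LinearMap.ker (v.baseChange A) ≤ (e₁ A p).toSubmodule ↔ ∃ z, z ≫ j = p := by
  classical
  have hpre : ∀ (T T' : Scheme.{u}) (t : T' ⟶ T) (x : T ⟶ X₁.left), Good v e₁ T x → Good v e₁ T' (t ≫ x) :=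
    fun T T' t x h A p b hb => h A p (b ≫ t) (by rw [Category.assoc, hb])
  have hloc : ∀ (T : Scheme.{u}) (x : T ⟶ X₁.left) (𝒱 : Scheme.OpenCover.{u} T),
      (∀ i, Good v e₁ _ (𝒱.f i ≫ x)) → Good v e₁ T x := by
    intro T x 𝒱 h A p b hb
    have h1 := obst_iff v hv e₁ he₁ p (pt A).left (𝟙 _)
    rw [Category.id_comp] at h1
    refine (?_ : Good v e₁ (pt A).left p.left) A p (𝟙 _) (Category.id_comp _)
    refine h1.2 fun a ha => ?_
    refine TopCat.Sheaf.eq_of_locally_eq' (pt A).left.sheaf (fun i => b ⁻¹ᵁ (𝒱.f i).opensRange) ⊤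
      (fun i => homOfLE le_top) (fun w _ => ?_) _ _ fun i => ?_
    · exact TopologicalSpace.Opens.mem_iSup.2 ⟨𝒱.idx (b w), 𝒱.covers (b w)⟩
    let W := b ⁻¹ᵁ (𝒱.f i).opensRange
    let l := IsOpenImmersion.lift (𝒱.f i) (W.ι ≫ b) (by rintro _ ⟨w, rfl⟩; exact w.2)
    have hl : l ≫ 𝒱.f i = W.ι ≫ b := IsOpenImmersion.lift_fac _ _ _
    have h2 := (obst_iff v hv e₁ he₁ p W.toScheme W.ι).1 (by
      have h3 := hpre _ _ l _ (h i)
      rwa [reassoc_of% hl, hb] at h3) a ha
    refine Eq.trans ?_ (map_zero _).symm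
    exact res_eq_zero_of_appTop W.ι _ (by rw [Scheme.Opens.opensRange_ι]) _ h2
  let ι := X₁.left.affineCover.I₀
  obtain ⟨Z, j, hj, hZ⟩ := CohExch.LocalSub.exists_of_locally X₁.left (Good v e₁) hpre @IsClosedImmersion hloc
    (fun i : ι => (X₁.left.affineCover.f i).opensRange) X₁.left.affineCover.isOpenCover_opensRange fun i => by
      let U := (X₁.left.affineCover.f i).opensRange
      haveI : IsAffine U.toScheme := isAffineOpen_opensRange (X₁.left.affineCover.f i)
      obtain ⟨A, θ, g, hg⟩ := exists_lift_affine (X := X₁) U.ι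
      let 𝔞 := obst v (e₁ A g)
      refine ⟨Spec (CommRingCat.of (A ⧸ 𝔞)), Spec.map (CommRingCat.ofHom (Ideal.Quotient.mk 𝔞)) ≫ θ.inv, ?_, ?_, ?_⟩
      · haveI := IsClosedImmersion.spec_of_surjective (CommRingCat.ofHom (Ideal.Quotient.mk 𝔞)) Ideal.Quotient.mk_surjective
        infer_instance
      · haveI := IsClosedImmersion.spec_of_surjective (CommRingCat.ofHom (Ideal.Quotient.mk 𝔞)) Ideal.Quotient.mk_surjective
        infer_instance
      intro T x
      rw [← hg, ← Category.assoc, obst_iff v hv e₁ he₁ g T (x ≫ θ.hom)]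
      constructor
      · intro h
        let χ : A →+* Γ(T, ⊤) := (((Scheme.ΓSpecIso (CommRingCat.of A)).inv ≫ (x ≫ θ.hom).appTop)).hom
        let z : T ⟶ Spec (CommRingCat.of (A ⧸ 𝔞)) :=
          T.toSpecΓ ≫ Spec.map (CommRingCat.ofHom (Ideal.Quotient.lift 𝔞 χ h))
        refine ⟨z, ?_⟩
        rw [← cancel_mono θ.hom]
        simp only [z, Category.assoc, θ.inv_hom_id, Category.comp_id]
        erw [Category.comp_id, ← Spec.map_comp]
        rw [← CommRingCat.ofHom_comp, Ideal.Quotient.lift_comp_mk]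
        refine ext_to_Spec ?_
        simp only [χ, CommRingCat.ofHom_hom]
        congr 1
        show (T.toSpecΓ ≫ Spec.map ((Scheme.ΓSpecIso (CommRingCat.of A)).inv ≫ (x ≫ θ.hom).appTop)).appTop =
          (x ≫ θ.hom).appTop
        rw [Scheme.Hom.comp_appTop, Scheme.toSpecΓ_appTop, Scheme.ΓSpecIso_naturality, Iso.hom_inv_id_assoc]
      · rintro ⟨z, rfl⟩ a ha
        simp only [Category.assoc, θ.inv_hom_id, Category.comp_id]
        rw [Scheme.Hom.comp_appTop, CommRingCat.comp_apply]
        have e : (Spec.map (CommRingCat.ofHom (Ideal.Quotient.mk 𝔞))).appTop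
            ((Scheme.ΓSpecIso (CommRingCat.of A)).inv a) = 0 := by
          refine (ConcreteCategory.congr_hom (Scheme.ΓSpecIso_inv_naturality
            (CommRingCat.ofHom (Ideal.Quotient.mk 𝔞))) a).symm.trans ?_
          rw [ConcreteCategory.comp_apply]
          exact (congrArg _ (Ideal.Quotient.eq_zero_iff_mem.2 ha)).trans (map_zero _)
        exact (congrArg z.appTop e).trans (map_zero _)
  let Z' : Over (Spec (CommRingCat.of R)) := Over.mk (j ≫ X₁.hom)
  refine ⟨Z', Over.homMk j rfl, hj, fun A p => ?_⟩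
  constructor
  · intro h
    obtain ⟨z, hz⟩ := (hZ _ p.left).1 fun B p' b hb => by
      obtain ⟨ψ, hψ⟩ := Spec.map_surjective b
      have hc : CommRingCat.ofHom (algebraMap R A) ≫ ψ = CommRingCat.ofHom (algebraMap R B) := by
        refine Spec.map_injective ?_
        rw [Spec.map_comp, hψ]
        refine Eq.trans ?_ (Over.w p')
        rw [← hb, Category.assoc]
        exact congrArg (b ≫ ·) (Over.w p).symm
      let φ : A ⟶ B := CommAlgCat.ofHom { ψ.hom with commutes' := fun r => ConcreteCategory.congr_hom hc r }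
      rw [he₁ A B φ p p' (by rw [← hb, ← hψ]; rfl)]
      obtain ⟨N', hN'⟩ := exists_grassComap_eq v hv (e₁ A p) h
      show _ ≤ (Module.Grassmannian.map φ.hom (e₁ A p)).toSubmodule
      rw [← hN', map_grassComap]
      exact Submodule.comap_mono bot_le
    refine ⟨Over.homMk z ?_, Over.OverMorphism.ext hz⟩
    show z ≫ j ≫ X₁.hom = _
    rw [reassoc_of% hz]
    exact Over.w p
  · rintro ⟨z, rfl⟩
    exact (hZ _ _).2 ⟨z.left, rfl⟩ A _ (𝟙 _) (Category.id_comp _)

end Groth.Agent.GrassLib
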